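import Mathlib.RingTheory.HopfAlgebra.Convolution
import Mathlib.RingTheory.TensorProduct.Maps

set_option autoImplicit false

universe u v

namespace Groth.Misc12

open TensorProduct Coalgebra WithConv

variable {k : Type u} [CommRing k] {A : Type v} [CommRing A] [HopfAlgebra k A]

/-- The antipode of a commutative Hopf algebra reverses the comultiplication. -/
theorem comul_antipode_eq (a : A) :
    comul (R := k) (HopfAlgebra.antipode k a) =
      TensorProduct.map (HopfAlgebra.antipode k) (HopfAlgebra.antipode k)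
        ((TensorProduct.comm k A A) (comul (R := k) a)) := by
  let i₁ : WithConv (A →ₐ[k] A ⊗[k] A) := toConv (Algebra.TensorProduct.includeLeft)
  let i₂ : WithConv (A →ₐ[k] A ⊗[k] A) := toConv (Algebra.TensorProduct.includeRight)
  let d : WithConv (A →ₐ[k] A ⊗[k] A) := toConv (Bialgebra.comulAlgHom k A)
  have cm : ∀ (f g : WithConv (A →ₐ[k] A ⊗[k] A)) (x : A),
      (f * g).ofConv x = ∑ i ∈ (ℛ k x).index, f.ofConv ((ℛ k x).left i) * g.ofConv ((ℛ k x).right i) := by
    intro f g x
    rw [AlgHom.convMul_apply, ← (ℛ k x).eq, map_sum]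
    simp [Algebra.TensorProduct.lift_tmul]
  have hd : d = i₁ * i₂ := by
    refine WithConv.ofConv_injective (AlgHom.ext fun x => ?_)
    rw [cm]
    simp [i₁, i₂, d, Algebra.TensorProduct.tmul_mul_tmul, (ℛ k x).eq]
  have hinv : d⁻¹ = i₂⁻¹ * i₁⁻¹ := by
    exact (congrArg (fun f => f⁻¹) hd).trans (mul_inv_rev i₁ i₂)
  have h := congrArg (fun f : WithConv (A →ₐ[k] A ⊗[k] A) => f.ofConv a) hinv
  rw [cm] at h
  change comul (R := k) (HopfAlgebra.antipode k a) = _ at h
  rw [h, ← (ℛ k a).eq, map_sum, map_sum]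
  refine Finset.sum_congr rfl fun i _ => ?_
  change ((1 : A) ⊗ₜ[k] HopfAlgebra.antipode k _) * (HopfAlgebra.antipode k _ ⊗ₜ[k] (1 : A)) = _
  simp [Algebra.TensorProduct.tmul_mul_tmul]

end Groth.Misc12
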