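import Groth.Agent.PicAux.RegularUFD
import Groth.Agent.PicAux.Hartogs
import Groth.Agent.RefRank.BigOpen
import Groth.Agent.Misc7.DepthTwoExtend
import Groth.Agent.FlatmorThree.AffineComplement

/-! The affine hull of an open subscheme of a regular Noetherian affine scheme is an open subscheme. -/

set_option autoImplicit false
set_option linter.style.haveILetI false
universe u

open CategoryTheory CategoryTheory.Limits AlgebraicGeometry TopologicalSpace

namespace Groth.Misc12.AffineHull

variable {B : CommRingCat.{u}} [IsNoetherianRing B]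

theorem exists_affine_hull (hreg : ∀ p : Spec B, IsRegularLocalRing ((Spec B).presheaf.stalk p))
    (U : (Spec B).Opens) :
    ∃ (V : (Spec B).Opens) (h : U ≤ V), IsAffineOpen V ∧
      Function.Bijective ((Spec B).presheaf.map (homOfLE h).op) := by
  classical
  obtain ⟨S, hS⟩ := (PrimeSpectrum.isClosed_iff_zeroLocus _).1 U.2.isClosed_compl
  let A := (Ideal.span S).radical
  have hA : ∀ p : PrimeSpectrum B, A ≤ p.asIdeal ↔ p ∉ U := fun p => by
    rw [show p ∉ U ↔ p ∈ PrimeSpectrum.zeroLocus S from (Set.ext_iff.1 hS p), PrimeSpectrum.mem_zeroLocus,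
      p.isPrime.radical_le_iff, Ideal.span_le]
  let T := (A.finite_minimalPrimes_of_isNoetherianRing B).toFinset.filter fun q => q.height ≤ 1
  let J : Ideal B := T.inf id
  have hT : ∀ q ∈ T, q ∈ A.minimalPrimes ∧ q.height ≤ 1 := fun q hq => by
    rw [Finset.mem_filter, Set.Finite.mem_toFinset] at hq; exact hq
  have hJp : ∀ p : Ideal B, p.IsPrime → (J ≤ p ↔ ∃ q ∈ T, q ≤ p) := fun p hp =>
    ⟨fun h => (Ideal.IsPrime.inf_le' hp).1 h, fun ⟨q, hq, hqp⟩ => (Finset.inf_le (f := id) hq).trans hqp⟩
  let V : (Spec B).Opens := ⟨(PrimeSpectrum.zeroLocus (J : Set B))ᶜ, (PrimeSpectrum.isClosed_zeroLocus _).isOpen_compl⟩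
  have hV : ∀ p : PrimeSpectrum B, p ∈ V ↔ ¬ J ≤ p.asIdeal := fun p => Iff.rfl
  have hUV : U ≤ V := fun p hp => (hV p).2 fun hJ => by
    obtain ⟨q, hq, hqp⟩ := (hJp p.asIdeal p.isPrime).1 hJ
    exact (hA p).1 ((hT q hq).1.1.2.trans hqp) hp
  have hVaff : IsAffineOpen V := by
    haveI : IsAffineHom V.ι := by
      refine isAffineHom_of_forall_exists_isAffineOpen _ fun p => ?_
      -- `J` is principal near `p`
      haveI := hreg p
      let L := Localization.AtPrime p.asIdeal
      haveI : IsRegularLocalRing L :=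
        IsRegularLocalRing.of_ringEquiv (Spec.stalkIso B p).commRingCatIsoToRingEquiv
      haveI : IsDomain L := Groth.Ega4Algebra1.isDomain_of_isRegularLocalRing L
      haveI : UniqueFactorizationMonoid L := Groth.PicAux.ufd_of_isRegularLocalRing L
      obtain ⟨a, haJ, ha⟩ : ∃ a ∈ J, J.map (algebraMap B L) = Ideal.span {algebraMap B L a} := by
        obtain ⟨a', ha'⟩ : ∃ a', J.map (algebraMap B L) = Ideal.span {a'} := by
          by_cases h0 : J.map (algebraMap B L) = ⊥
          · exact ⟨0, by rw [h0, Ideal.span_singleton_zero]⟩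
          have hrad : (J.map (algebraMap B L)).IsRadical := by
            rw [← Ideal.radical_eq_iff, ← IsLocalization.map_radical p.asIdeal.primeCompl]
            congr 1
            exact le_antisymm (Finset.le_inf fun q hq => (hT q hq).1.isPrime.radical_le_iff.2 (Finset.inf_le (f := id) hq))
              Ideal.le_radical
          obtain ⟨g, -, hg⟩ := Groth.FlatmorThree.AffineCompl.exists_span_of_minimalPrimes _ hrad fun Q hQ => by
            refine ⟨fun hQ0 => h0 (le_bot_iff.1 (hQ0 ▸ hQ.1.2)), ?_⟩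
            rw [IsLocalization.minimalPrimes_map p.asIdeal.primeCompl L J] at hQ
            have hq : Q.comap (algebraMap B L) ∈ J.minimalPrimes := hQ
            rw [← IsLocalization.height_under p.asIdeal.primeCompl Q]
            obtain ⟨q, hqT, hqQ⟩ := (hJp _ hq.isPrime).1 hq.1.2
            have := hq.2 ⟨(hT q hqT).1.isPrime, Finset.inf_le (f := id) hqT⟩ hqQ
            show (Q.comap (algebraMap B L)).height ≤ 1
            rw [le_antisymm this hqQ]
            exact (hT q hqT).2
          exact ⟨g, hg⟩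
        obtain ⟨⟨a, s⟩, has⟩ := (IsLocalization.mem_map_algebraMap_iff p.asIdeal.primeCompl L).1
          (ha'.ge (Ideal.mem_span_singleton_self a'))
        refine ⟨a, a.2, ?_⟩
        rw [ha', ← has, Ideal.span_singleton_mul_right_unit (IsLocalization.map_units L s)]
      obtain ⟨G, hG⟩ := IsNoetherian.noetherian J
      have hb : ∀ b : G, ∃ s ∈ p.asIdeal.primeCompl, s * b.1 ∈ Ideal.span {a} := fun b => by
        refine (IsLocalization.algebraMap_mem_map_algebraMap_iff p.asIdeal.primeCompl L _ _).1 ?_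
        rw [Ideal.map_span, Set.image_singleton, ← ha]
        exact Ideal.mem_map_of_mem _ (hG ▸ Submodule.subset_span b.2)
      choose σ hσ hσb using hb
      let f := ∏ b : G, σ b
      have hf : f ∈ p.asIdeal.primeCompl := prod_mem fun b _ => hσ b
      have hfJ : ∀ b ∈ J, f * b ∈ Ideal.span {a} := fun b hb => by
        rw [← hG] at hb
        induction hb using Submodule.span_induction with
        | mem b hb =>
          rw [show f = (∏ c ∈ Finset.univ.erase (⟨b, hb⟩ : G), σ c) * σ ⟨b, hb⟩ from
            (Finset.prod_erase_mul _ _ (Finset.mem_univ _)).symm, mul_assoc]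
          exact Ideal.mul_mem_left _ _ (hσb ⟨b, hb⟩)
        | zero => simp
        | add p q _ _ hp hq => rw [mul_add]; exact add_mem hp hq
        | smul c p _ hp => rw [smul_eq_mul, mul_left_comm]; exact Ideal.mul_mem_left _ _ hp
      refine ⟨PrimeSpectrum.basicOpen f, hf, IsAffineOpen.Spec_basicOpen _, ?_⟩
      rw [← V.ι.isAffineOpen_iff_of_isOpenImmersion, Scheme.Hom.image_preimage_eq_opensRange_inf,
        Scheme.Opens.opensRange_ι]
      have he : V ⊓ PrimeSpectrum.basicOpen f = PrimeSpectrum.basicOpen (f * a) := by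
        ext q
        constructor
        · rintro ⟨hqV, hqf⟩ hmem
          refine (hV q).1 hqV fun b hb => ?_
          have ha' : a ∈ q.asIdeal := (q.isPrime.mem_or_mem hmem).resolve_left hqf
          exact (q.isPrime.mem_or_mem ((Ideal.span_singleton_le_iff_mem _).2 ha' (hfJ b hb))).resolve_left hqf
        · intro hq
          exact ⟨fun h => hq (Ideal.mul_mem_left _ _ (h haJ)), fun h => hq (Ideal.mul_mem_right _ _ h)⟩
      rw [he]
      exact IsAffineOpen.Spec_basicOpen _
    exact isAffine_of_isAffineHom V.ι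
  refine ⟨V, hUV, hVaff, ?_⟩
  let W : (V : Scheme.{u}).Opens := V.ι ⁻¹ᵁ U
  haveI : IsAffine (V : Scheme.{u}) := hVaff
  haveI : IsNoetherianRing Γ(Spec B, V) := IsLocallyNoetherian.component_noetherian ⟨V, hVaff⟩
  haveI : NoetherianSpace (V : Scheme.{u}) := noetherianSpace_of_isAffineOpen V hVaff
  haveI : IsLocallyNoetherian (V : Scheme.{u}) := isLocallyNoetherian_of_isOpenImmersion V.ι
  haveI : QuasiCompact W.ι := inferInstance
  have hreg2 : ∀ z : (V : Scheme.{u}), z ∉ W → ∃ a b : (V : Scheme.{u}).presheaf.stalk z,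
      a ∈ IsLocalRing.maximalIdeal _ ∧ b ∈ IsLocalRing.maximalIdeal _ ∧
      RingTheory.Sequence.IsWeaklyRegular ((V : Scheme.{u}).presheaf.stalk z) [a, b] := by
    intro z hz
    let e := (V.stalkIso z).commRingCatIsoToRingEquiv
    haveI := hreg z.1
    haveI : IsRegularLocalRing ((V : Scheme.{u}).presheaf.stalk z) := IsRegularLocalRing.of_ringEquiv e.symm
    haveI : IsDomain ((V : Scheme.{u}).presheaf.stalk z) := Groth.Ega4Algebra1.isDomain_of_isRegularLocalRing _
    haveI : UniqueFactorizationMonoid ((V : Scheme.{u}).presheaf.stalk z) := Groth.PicAux.ufd_of_isRegularLocalRing _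
    refine Groth.PicAux.exists_regular_pair (Groth.RefRank.two_le_depth_of_normal ?_)
    rw [ringKrullDim_eq_of_ringEquiv e,
      ringKrullDim_eq_of_ringEquiv (Spec.stalkIso B z.1).commRingCatIsoToRingEquiv,
      IsLocalization.AtPrime.ringKrullDim_eq_height z.1.asIdeal (Localization.AtPrime z.1.asIdeal)]
    obtain ⟨q, hq, hqz⟩ := Ideal.exists_minimalPrimes_le ((hA z.1).2 hz)
    have hq1 : ¬ q.height ≤ 1 := fun h => (hV z.1).1 z.2 ((hJp _ z.1.isPrime).2
      ⟨q, Finset.mem_filter.2 ⟨(Set.Finite.mem_toFinset _).2 hq, h⟩, hqz⟩)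
    exact WithBot.coe_le_coe.2 ((Order.add_one_le_of_lt (not_le.1 hq1)).trans (Ideal.height_mono hqz))
  have hb : Function.Bijective ((V : Scheme.{u}).presheaf.map (homOfLE (le_top : W ≤ ⊤)).op) :=
    Misc7.DepthTwo.bijective_restrict hreg2 (isAffineOpen_top _) (top_inf_eq W).symm _
  have key : ∀ {V₁ U₁ : (Spec B).Opens}, V₁ = V → U₁ = U → ∀ i : U₁ ⟶ V₁,
      Function.Bijective ((Spec B).presheaf.map i.op) → Function.Bijective ((Spec B).presheaf.map (homOfLE hUV).op) := by
    rintro _ _ rfl rfl i h
    exact h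
  refine key V.ι_image_top ?_ (V.ι.opensFunctor.map (homOfLE (le_top : W ≤ ⊤))) hb
  rw [Scheme.Hom.image_preimage_eq_opensRange_inf, Scheme.Opens.opensRange_ι, inf_eq_right.2 hUV]

end Groth.Misc12.AffineHull
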