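import Groth.Agent.Misc7.Perfection.Sections
import Groth.Agent.Chow.VeryAmple
import Groth.Agent.PropsBasic.AmpleSec
import Groth.Agent.Limits.AmpleThickening

/-! Ampleness along the perfection of a scheme of characteristic `p`. -/

set_option autoImplicit false
set_option linter.style.haveILetI false
universe u

open AlgebraicGeometry CategoryTheory TopologicalSpace FrobSch

namespace Groth.Misc12.AmplePerfection

open Groth.PicAux (Gen pullSec powSec)
open Groth.PropsBasic.Ample (gloc)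
open Groth.Misc7.Perfection
open Groth.FlatMor2.SquareZero

variable {p : ℕ} [Fact p.Prime] {X XP : Scheme.{u}} [IsCharP X p] [IsCharP XP p] {π : XP ⟶ X}

/-- A `p`-power of a section of the pullback descends. -/
theorem exists_gloc_pow (h : IsPerfection π p) [CompactSpace X] [QuasiSeparatedSpace X]
    {M : X.Modules} (hM : PicF.IsInvertible M) (σ : Γ((Scheme.Modules.pullback π).obj M, ⊤)) :
    ∃ (n : ℕ) (t : Γ(CohB1.tensorPow M n, ⊤)), 0 < n ∧ π ⁻¹ᵁ gloc t = gloc σ := by
  classical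
  have := PicAux.isQCoh_of_isInvertible hM
  choose U₀ e₀ hU₀ hxU₀ he₀ using fun x : X => PicAux.exists_affine_gen_mem hM x
  obtain ⟨T, hT⟩ := isCompact_univ.elim_finite_subcover (fun x => (U₀ x : Set X))
    (fun x => (U₀ x).2) (fun x _ => Set.mem_iUnion.mpr ⟨x, hxU₀ x⟩)
  let ι := {x // x ∈ T}
  let U : ι → X.Opens := fun α => U₀ α.1
  let e : ∀ α : ι, Γ(M, U α) := fun α => e₀ α.1
  have he : ∀ α, Gen M (U α) (e α) := fun α => he₀ α.1
  have hU : ∀ α, IsAffineOpen (U α) := fun α => hU₀ α.1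
  have hcov : (⊤ : X.Opens) ≤ iSup U := fun x _ => by
    obtain ⟨y, hy, hxy⟩ := Set.mem_iUnion₂.mp (hT (Set.mem_univ x))
    exact Opens.mem_iSup.mpr ⟨⟨y, hy⟩, hxy⟩
  have hcoef : ∀ α, ∃ g : Γ(XP, π ⁻¹ᵁ U α),
      PicAux.res _ le_top σ = g • pullSec π M (e α) := by
    intro α
    obtain ⟨g, hg⟩ := ((he α).pull π).exists_coeff le_rfl (PicAux.res _ le_top σ)
    rw [PicAux.res_self] at hg
    exact ⟨g, hg⟩
  choose g hg using hcoef
  have hlift : ∀ α, ∃ (m : ℕ) (z : Γ(X, U α)), π.app (U α) z = g α ^ p ^ m := fun α =>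
    exists_app_eq_pow h (hU α).isCompact (g α)
  choose m₀ z₀ hz₀ using hlift
  let m := Finset.univ.sup m₀
  obtain ⟨z, hz⟩ : ∃ z : ∀ α, Γ(X, U α), ∀ α, π.app (U α) (z α) = g α ^ p ^ m :=
    ⟨fun α => z₀ α ^ p ^ (m - m₀ α), fun α => by
      rw [map_pow, hz₀, ← pow_mul, ← pow_add, Nat.add_sub_cancel' (Finset.le_sup (Finset.mem_univ α))]⟩
  have hv : ∀ α β, ∃ v : Γ(X, U α ⊓ U β),
      PicAux.res M inf_le_right (e β) = v • PicAux.res M inf_le_left (e α) := fun α β =>
    (he α).exists_coeff inf_le_left _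
  choose v hv using hv
  have key : ∀ (α : ι) {W : X.Opens} (h : W ≤ U α) (r : Γ(X, W)),
      pullSec π M (r • PicAux.res M h (e α)) =
        π.app W r • PicAux.res _ (π.preimage_mono h) (pullSec π M (e α)) := fun α W h r => by
    rw [PicAux.pullSec_smul, PicAux.res_pullSec]
  have hgv : ∀ α β, res XP (π.preimage_mono inf_le_right) (g β) * π.app _ (v α β) =
      res XP (π.preimage_mono inf_le_left) (g α) := fun α β => by
    refine ((he α).pull π).smul_inj (π.preimage_mono inf_le_left) ?_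
    rw [mul_smul, ← key α inf_le_left (v α β), ← hv, ← PicAux.res_pullSec,
      ← Limits.AmpleThickening.resM_smul,
      ← Limits.AmpleThickening.resM_smul, ← hg α, ← hg β, PicAux.res_res, PicAux.res_res]
  have hk : ∀ α β, ∃ k, res X (inf_le_left (b := U β)) (z α) ^ p ^ k =
      (res X (inf_le_right (a := U α)) (z β) * v α β ^ p ^ m) ^ p ^ k := by
    intro α β
    have h0 : π.app _ (res X (inf_le_left (b := U β)) (z α) -
        res X (inf_le_right (a := U α)) (z β) * v α β ^ p ^ m) = 0 := by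
      rw [map_sub, map_mul, map_pow, Groth.FlatMor2.SquareZero.app_res π inf_le_left (z α),
        Groth.FlatMor2.SquareZero.app_res π inf_le_right (z β), hz, hz, map_pow, map_pow, ← mul_pow,
        sub_eq_zero]
      congr 1
      exact (hgv α β).symm
    obtain ⟨k, hk⟩ := nilpotent_of_app_eq_zero h
      (QuasiSeparatedSpace.inter_isCompact (U α).1 (U β).1 (U α).2 (hU α).isCompact (U β).2
        (hU β).isCompact) _ h0
    have h1 := add_pow_char_pow' (natCast_eq_zero_app X p (U α ⊓ U β))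
      (res X (inf_le_left (b := U β)) (z α) - res X (inf_le_right (a := U α)) (z β) * v α β ^ p ^ m)
      (res X (inf_le_right (a := U α)) (z β) * v α β ^ p ^ m) k
    rw [sub_add_cancel, hk, zero_add] at h1
    exact ⟨k, h1⟩
  choose k₀ hk₀ using hk
  let K := (Finset.univ : Finset (ι × ι)).sup fun q => k₀ q.1 q.2
  let n := p ^ (m + K)
  let s : ∀ α, Γ(X, U α) := fun α => z α ^ p ^ K
  have hs : ∀ α β, res X (inf_le_left (b := U β)) (s α) =
      res X (inf_le_right (a := U α)) (s β) * v α β ^ n := by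
    intro α β
    obtain ⟨j, hj⟩ := Nat.exists_eq_add_of_le
      (Finset.le_sup (f := fun q : ι × ι => k₀ q.1 q.2) (Finset.mem_univ (α, β)))
    have hK : p ^ K = p ^ k₀ α β * p ^ j := by rw [← pow_add]; exact congrArg (p ^ ·) hj
    rw [show res X (inf_le_left (b := U β)) (s α) = res X inf_le_left (z α) ^ p ^ K from map_pow _ _ _,
      show res X (inf_le_right (a := U α)) (s β) = res X inf_le_right (z β) ^ p ^ K from map_pow _ _ _,
      hK, pow_mul, hk₀, ← pow_mul, ← hK, mul_pow, ← pow_mul, ← pow_add]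
  have hn : 0 < n := pow_pos (Fact.out : p.Prime).pos _
  obtain ⟨t, ht, -⟩ := PicAux.res_glue (M := CohB1.tensorPow M n) U (fun _ => le_top) hcov
    (fun α => s α • powSec (e α) n) fun α β => by
      rw [Limits.AmpleThickening.resM_smul, Limits.AmpleThickening.resM_smul, PicAux.res_powSec,
        PicAux.res_powSec, hv α β, PicAux.powSec_smul, ← mul_smul, ← hs]
  refine ⟨n, t, hn, PicAux.opens_ext_cover (U := fun α => π ⁻¹ᵁ U α) (eq_top_iff.2 fun x _ => ?_) fun α => ?_⟩
  · obtain ⟨α, hα⟩ := Opens.mem_iSup.1 (hcov (x := π x) trivial)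
    exact Opens.mem_iSup.2 ⟨α, hα⟩
  · rw [← Scheme.Hom.preimage_inf, Groth.PropsBasic.Ample.gloc_inf_eq_basicOpen ((he α).pow n) (ht α),
      Scheme.Hom.preimage_basicOpen,
      Groth.PropsBasic.Ample.gloc_inf_eq_basicOpen ((he α).pull π) (hg α)]
    simp only [s, map_pow, hz, ← pow_mul, ← pow_add]
    exact Scheme.basicOpen_pow _ _ hn

theorem isAmple_of_pullback (h : IsPerfection π p) [CompactSpace X] [QuasiSeparatedSpace X]
    {L : X.Modules} (hL : PicF.IsInvertible L)
    (hA : CohB1.IsAmple ((Scheme.Modules.pullback π).obj L)) : CohB1.IsAmple L := by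
  refine ⟨hL, inferInstance, fun x => ?_⟩
  haveI := surjective h
  obtain ⟨y, rfl⟩ := π.surjective x
  obtain ⟨k, s, hys, hs⟩ := hA.2.2 y
  rw [Groth.PropsBasic.Ample.genLocus_eq_gloc] at hys hs
  obtain ⟨φ⟩ := PicAux.pullback_tensorPow π L (k + 1)
  let σ := φ.inv.app ⊤ (PicAux.gsec s)
  have hσ : gloc σ = gloc (PicAux.gsec s) := Groth.PropsBasic.Ample.gloc_map φ.inv _
  obtain ⟨n, t, hn, ht⟩ := exists_gloc_pow h (PicAux.isInvertible_tensorPow hL (k + 1)) σ
  have hD : IsAffineOpen (gloc t) := by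
    haveI : IsCharP (↑(gloc t) : Scheme.{u}) p := isCharP_opens _
    haveI : IsCharP (↑(π ⁻¹ᵁ gloc t) : Scheme.{u}) p := isCharP_opens _
    haveI : IsAffine (↑(π ⁻¹ᵁ gloc t) : Scheme.{u}) := by rw [ht, hσ]; exact hs
    exact isAffine_of_isAffine (restrict h (gloc t))
  obtain ⟨c, hc⟩ := Groth.PropsBasic.Ample.exists_gloc_transport (k + 1) n t
  have key : ∀ N N' : ℕ, N = N' → ∀ c : Γ(CohB1.tensorPow L N, ⊤),
      ∃ c' : Γ(CohB1.tensorPow L N', ⊤), gloc c' = gloc c := by
    rintro N _ rfl c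
    exact ⟨c, rfl⟩
  obtain ⟨c', hc'⟩ := key _ ((k + 1) * n - 1 + 1) (by
    have : 0 < (k + 1) * n := Nat.mul_pos (Nat.succ_pos k) hn
    omega) c
  refine ⟨(k + 1) * n - 1, PicAux.homOfSection c', ?_, ?_⟩
  · change π y ∈ gloc c'
    rw [hc', hc]
    exact (ht.trans hσ).ge hys
  · change IsAffineOpen (gloc c')
    rw [hc', hc]
    exact hD

end Groth.Misc12.AmplePerfection
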