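import Mathlib.RingTheory.Nullstellensatz
import Mathlib.Algebra.MvPolynomial.Division
import Mathlib.Algebra.BigOperators.Field
import Mathlib.RingTheory.MvPolynomial.Ideal
import Mathlib.RingTheory.MvPolynomial.Homogeneous

set_option autoImplicit false

universe u

namespace Groth.Misc12.BinForms

open MvPolynomial

variable {k : Type u} [Field k]

theorem sub_aeval_mem {σ : Type*} (φ : σ → MvPolynomial σ k) (P : MvPolynomial σ k) :
    P - aeval φ P ∈ Ideal.span (Set.range fun s => X s - φ s) := by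
  rw [← Ideal.Quotient.eq]
  have h : Ideal.Quotient.mkₐ k (Ideal.span (Set.range fun s => X s - φ s)) =
      (Ideal.Quotient.mkₐ k _).comp (aeval φ) := by
    apply algHom_ext
    intro s
    simp only [AlgHom.comp_apply, aeval_X, Ideal.Quotient.mkₐ_eq_mk]
    exact Ideal.Quotient.eq.2 (Ideal.subset_span ⟨s, rfl⟩)
  exact DFunLike.congr_fun h P

theorem exists_factor_of_zero {n : ℕ} (F : Fin n → MvPolynomial (Fin 2) k) (d : Fin n → ℕ)
    (hF : ∀ i, (F i).IsHomogeneous (d i)) (a : Fin 2 → k) (ha : a ≠ 0)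
    (hz : ∀ i, eval a (F i) = 0) :
    ∃ H : MvPolynomial (Fin 2) k, ¬ IsUnit H ∧ ∀ i, H ∣ F i := by
  classical
  obtain ⟨i₀, hi₀⟩ := Function.ne_iff.1 ha
  rw [Pi.zero_apply] at hi₀
  obtain ⟨j₀, hj₀⟩ : ∃ j : Fin 2, j ≠ i₀ := ⟨i₀ + 1, by fin_cases i₀ <;> simp⟩
  set φ : Fin 2 → MvPolynomial (Fin 2) k := fun s => C (a s / a i₀) * X i₀ with hφ
  have hL : X j₀ - φ j₀ ≠ 0 ∧ ¬ IsUnit (X j₀ - φ j₀) := by
    constructor
    · intro h
      have := congrArg (coeff (Finsupp.single j₀ 1)) h
      simp [hφ, coeff_X', coeff_C_mul, Finsupp.single_eq_single_iff, hj₀.symm] at this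
    · intro h
      have := h.map constantCoeff
      simp [hφ] at this
  refine ⟨X j₀ - φ j₀, hL.2, fun i => ?_⟩
  have hm : F i - aeval φ (F i) ∈ Ideal.span {X j₀ - φ j₀} := by
    refine Ideal.span_le.2 ?_ (sub_aeval_mem φ (F i))
    rintro x ⟨s, rfl⟩
    by_cases hs : s = i₀
    · subst hs
      simp [hφ, div_self hi₀]
    · have : s = j₀ := by omega
      subst this
      exact Ideal.subset_span rfl
  have h0 : aeval φ (F i) = 0 := by
    have e : ∀ u ∈ (F i).support, aeval φ (monomial u (coeff u (F i))) =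
        C (eval (fun s => a s / a i₀) (monomial u (coeff u (F i)))) * X i₀ ^ (d i) := by
      intro u hu
      have hdeg : d i = u.degree := (hF i).degree_eq_sum_deg_support hu
      rw [aeval_monomial, eval_monomial, hdeg, map_mul, algebraMap_eq, Finsupp.degree_apply, ← Finset.prod_pow_eq_pow_sum,
        Finsupp.prod, Finsupp.prod, map_prod, mul_assoc, ← Finset.prod_mul_distrib]
      simp [hφ, mul_pow]
    conv_lhs => rw [(F i).as_sum]
    rw [map_sum, Finset.sum_congr rfl e, ← Finset.sum_mul, ← map_sum C, ← map_sum (eval _), ← (F i).as_sum]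
    have : eval (fun s => a s / a i₀) (F i) = 0 := by
      have e2 : ∀ u ∈ (F i).support, eval (fun s => a s / a i₀) (monomial u (coeff u (F i))) =
          eval a (monomial u (coeff u (F i))) / a i₀ ^ d i := by
        intro u hu
        have hdeg : d i = u.degree := (hF i).degree_eq_sum_deg_support hu
        rw [eval_monomial, eval_monomial, hdeg, Finsupp.degree_apply, ← Finset.prod_pow_eq_pow_sum,
          Finsupp.prod, Finsupp.prod, mul_div_assoc, ← Finset.prod_div_distrib]
        simp [div_pow]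
      conv_lhs => rw [(F i).as_sum]
      rw [map_sum, Finset.sum_congr rfl e2, ← Finset.sum_div, ← map_sum, ← (F i).as_sum, hz i, zero_div]
    rw [this, map_zero, zero_mul]
  rw [h0, sub_zero] at hm
  exact Ideal.mem_span_singleton.1 hm

theorem exists_zero_of_not_isUnit [IsAlgClosed k] (H : MvPolynomial (Fin 2) k) (hH : ¬ IsUnit H) :
    ∃ a : Fin 2 → k, a ≠ 0 ∧ eval a H = 0 := by
  by_contra hc
  push Not at hc
  -- `H` only vanishes at the origin, so `X 0` and `X 1` lie in the radical of `(H)`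
  have hrad : ∀ i : Fin 2, X i ∈ (Ideal.span {H}).radical := by
    intro i
    rw [← vanishingIdeal_zeroLocus_eq_radical (K := k), mem_vanishingIdeal_iff]
    intro x hx
    have hx' : eval x H = 0 := by
      simpa using (mem_zeroLocus_iff.1 hx) H (Ideal.subset_span rfl)
    by_cases h0 : x = 0
    · subst h0; simp
    · exact absurd hx' (hc x h0)
  have hd : ∀ i : Fin 2, ∃ m, H ∣ (X i : MvPolynomial (Fin 2) k) ^ m := fun i => by
    obtain ⟨m, hm⟩ := hrad i
    exact ⟨m, Ideal.mem_span_singleton.1 hm⟩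
  obtain ⟨m, hm⟩ := hd 0
  obtain ⟨m', hm'⟩ := hd 1
  have hp : ∀ i : Fin 2, Prime (X i : MvPolynomial (Fin 2) k) := fun i => MvPolynomial.X_prime (i := i)
  obtain ⟨e, -, he⟩ := (dvd_prime_pow (hp 0) m).1 hm
  obtain ⟨e', -, he'⟩ := (dvd_prime_pow (hp 1) m').1 hm'
  have he0 : e ≠ 0 := by
    rintro rfl
    rw [pow_zero] at he
    exact hH (associated_one_iff_isUnit.1 he)
  have hdvd : (X 0 : MvPolynomial (Fin 2) k) ∣ X 1 := by
    refine (hp 0).dvd_of_dvd_pow (n := e') ?_
    exact (dvd_pow_self _ he0).trans (he.symm.trans he').dvd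
  obtain ⟨c, hc'⟩ := hdvd
  have := congrArg (eval (![0, 1] : Fin 2 → k)) hc'
  simp at this

theorem homogeneous_combination {n : ℕ} (F : Fin n → MvPolynomial (Fin 2) k) (d : ℕ)
    (hF : ∀ i, (F i).IsHomogeneous d) (m : ℕ) (hm : d ≤ m) (P : MvPolynomial (Fin 2) k)
    (hP : P.IsHomogeneous m) (hmem : P ∈ Ideal.span (Set.range F)) :
    ∃ G : Fin n → MvPolynomial (Fin 2) k, (∀ i, (G i).IsHomogeneous (m - d)) ∧ P = ∑ i, F i * G i := by
  obtain ⟨c, hc⟩ := Ideal.mem_span_range_iff_exists_fun.1 hmem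
  refine ⟨fun i => homogeneousComponent (m - d) (c i),
    fun i => homogeneousComponent_isHomogeneous _ _, ?_⟩
  conv_lhs => rw [← homogeneousComponent_eq_self hP, ← hc, map_sum]
  refine Finset.sum_congr rfl fun i _ => ?_
  have key : ∀ q e : ℕ, ∀ g : MvPolynomial (Fin 2) k, g.IsHomogeneous e →
      homogeneousComponent m (g * F i) = if e = m - d then g * F i else 0 := by
    intro _ e g hg
    rw [homogeneousComponent_of_mem (n := e + d) (hg.mul (hF i))]
    have : m = e + d ↔ e = m - d := by omega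
    simp [this]
  conv_lhs => rw [← sum_homogeneousComponent (φ := c i), Finset.sum_mul, map_sum]
  simp only [key 0 _ _ (homogeneousComponent_isHomogeneous _ _)]
  rw [Finset.sum_ite_eq']
  split_ifs with h
  · rw [mul_comm]
  · rw [homogeneousComponent_eq_zero _ _ (by simp at h; omega), mul_zero]

theorem surjective_iff [IsAlgClosed k] {n : ℕ} (F : Fin n → MvPolynomial (Fin 2) k)
    (d : ℕ) (hF : ∀ i, (F i).IsHomogeneous d) :
    (¬ ∃ H : MvPolynomial (Fin 2) k, ¬ IsUnit H ∧ ∀ i, H ∣ F i) ↔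
      ∃ m : ℕ, d ≤ m ∧ ∀ P : MvPolynomial (Fin 2) k, P.IsHomogeneous m →
        ∃ G : Fin n → MvPolynomial (Fin 2) k, (∀ i, (G i).IsHomogeneous (m - d)) ∧
          P = ∑ i, F i * G i := by
  constructor
  · intro hno
    have hle : idealOfVars (Fin 2) k ≤ (Ideal.span (Set.range F)).radical := by
      rw [idealOfVars, Ideal.span_le]
      rintro _ ⟨i, rfl⟩
      rw [SetLike.mem_coe, ← vanishingIdeal_zeroLocus_eq_radical (K := k), mem_vanishingIdeal_iff]
      intro x hx
      by_cases h0 : x = 0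
      · subst h0; simp
      · refine absurd (exists_factor_of_zero F (fun _ => d) hF x h0 fun j => ?_) hno
        simpa using (mem_zeroLocus_iff.1 hx) (F j) (Ideal.subset_span ⟨j, rfl⟩)
    obtain ⟨N, hN⟩ := Ideal.exists_pow_le_of_le_radical_of_fg hle (idealOfVars_fg _ _)
    refine ⟨max N d, le_max_right _ _, fun P hP =>
      homogeneous_combination F d hF _ (le_max_right _ _) P hP (hN ?_)⟩
    rw [mem_pow_idealOfVars_iff]
    exact fun x hx => (le_max_left N d).trans (hP.degree_eq_sum_deg_support hx).le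
  · rintro ⟨m, -, hm⟩ ⟨H, hH, hdvd⟩
    obtain ⟨a, ha, haH⟩ := exists_zero_of_not_isUnit H hH
    obtain ⟨i₀, hi₀⟩ := Function.ne_iff.1 ha
    obtain ⟨G, -, hG⟩ := hm (X i₀ ^ m) (by simpa using (isHomogeneous_X k i₀).pow m)
    have := congrArg (eval a) hG
    have hz : ∀ i, eval a (F i) = 0 := fun i => by
      obtain ⟨c, hc⟩ := hdvd i
      rw [hc, map_mul, haH, zero_mul]
    simp [map_sum, hz] at this
    exact hi₀ this.1

end Groth.Misc12.BinForms
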