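import Groth.Prelude.Def_Conn
import Mathlib.LinearAlgebra.TensorProduct.Basis
import Mathlib.LinearAlgebra.Trace

set_option autoImplicit false

universe v u

open TensorProduct

namespace Groth.Misc12

variable {A : Type v} {B Ω M M' M'' : Type u} [CommRing A] [CommRing B] [Algebra A B]
  [AddCommGroup Ω] [Module B Ω]
  [AddCommGroup M] [Module B M] [Module A M] [IsScalarTower A B M]
  [AddCommGroup M'] [Module B M'] [Module A M'] [IsScalarTower A B M']

noncomputable def contr (X : Type u) [AddCommGroup X] [Module B X] (θ : Ω →ₗ[B] B) :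
    X ⊗[B] Ω →ₗ[B] X :=
  (TensorProduct.rid B X).toLinearMap ∘ₗ TensorProduct.map LinearMap.id θ

@[simp] theorem contr_tmul {X : Type u} [AddCommGroup X] [Module B X] (θ : Ω →ₗ[B] B) (x : X) (w : Ω) :
    contr X θ (x ⊗ₜ w) = θ w • x := by
  simp [contr]

theorem contr_map {X Y : Type u} [AddCommGroup X] [Module B X] [AddCommGroup Y] [Module B Y]
    (f : X →ₗ[B] Y) (θ : Ω →ₗ[B] B) (x : X ⊗[B] Ω) :
    contr Y θ (TensorProduct.map f LinearMap.id x) = f (contr X θ x) := by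
  induction x using TensorProduct.induction_on with
  | zero => simp
  | tmul a w => simp
  | add a b ha hb => simp [map_add, ha, hb]

theorem along_eq_contr (nabla : M →ₗ[A] M ⊗[B] Ω) (θ : Ω →ₗ[B] B) (m : M) :
    Conn.along nabla θ m = contr M θ (nabla m) := rfl

theorem contr_ext [Module.Free B Ω] {X : Type u} [AddCommGroup X] [Module B X] {x y : X ⊗[B] Ω}
    (h : ∀ θ : Ω →ₗ[B] B, contr X θ x = contr X θ y) : x = y := by
  classical
  let b := Module.Free.chooseBasis B Ω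
  apply (TensorProduct.equivFinsuppOfBasisRight b).injective
  ext i
  have key : ∀ z : X ⊗[B] Ω, TensorProduct.equivFinsuppOfBasisRight b z i = contr X (b.coord i) z := by
    intro z
    induction z using TensorProduct.induction_on with
    | zero => simp
    | tmul a w => simp
    | add a b ha hb => simp [map_add, ha, hb]
  rw [key, key, h]

theorem eq_sum_contr_basis {ι : Type*} [Fintype ι] (b : Module.Basis ι B Ω) {X : Type u} [AddCommGroup X]
    [Module B X] (z : X ⊗[B] Ω) : z = ∑ i, contr X (b.coord i) z ⊗ₜ[B] b i := by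
  induction z using TensorProduct.induction_on with
  | zero => simp
  | tmul a w =>
    simp only [contr_tmul, TensorProduct.smul_tmul]
    rw [← TensorProduct.tmul_sum]
    exact congrArg _ (b.sum_repr w).symm
  | add a b ha hb => simp only [map_add, TensorProduct.add_tmul, Finset.sum_add_distrib, ← ha, ← hb]

theorem isHorizontal_iff [Module.Free B Ω] (n : M →ₗ[A] M ⊗[B] Ω) (n' : M' →ₗ[A] M' ⊗[B] Ω)
    (φ : M →ₗ[B] M') :
    Conn.IsHorizontal n n' φ ↔
      ∀ (θ : Ω →ₗ[B] B) (m : M), Conn.along n' θ (φ m) = φ (Conn.along n θ m) := by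
  constructor
  · intro h θ m
    rw [along_eq_contr, along_eq_contr, h m, contr_map]
  · intro h m
    refine contr_ext fun θ => ?_
    rw [contr_map, ← along_eq_contr, ← along_eq_contr, h θ m]

theorem along_homConn {n : M →ₗ[A] M ⊗[B] Ω} {n' : M' →ₗ[A] M' ⊗[B] Ω}
    {n'' : (M →ₗ[B] M') →ₗ[A] (M →ₗ[B] M') ⊗[B] Ω} (h : Conn.IsHomConn n n' n'')
    (θ : Ω →ₗ[B] B) (φ : M →ₗ[B] M') (m : M) :
    Conn.along n'' θ φ m = Conn.along n' θ (φ m) - φ (Conn.along n θ m) := by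
  have := congrArg (contr M' θ) (h φ m)
  rw [contr_map, map_sub, contr_map] at this
  exact this

theorem contr_swapR (θ : Ω →ₗ[B] B) (x : M ⊗[B] Ω) (m' : M') :
    contr (M ⊗[B] M') θ (Conn.swapR (x ⊗ₜ m')) = contr M θ x ⊗ₜ m' := by
  induction x using TensorProduct.induction_on with
  | zero => simp
  | tmul a w => simp [Conn.swapR_tmul, TensorProduct.smul_tmul']
  | add a b ha hb => simp [TensorProduct.add_tmul, map_add, ha, hb]

theorem contr_assoc_symm (θ : Ω →ₗ[B] B) (m : M) (y : M' ⊗[B] Ω) :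
    contr (M ⊗[B] M') θ ((TensorProduct.assoc B M M' Ω).symm (m ⊗ₜ y)) = m ⊗ₜ contr M' θ y := by
  induction y using TensorProduct.induction_on with
  | zero => simp
  | tmul a w => simp [TensorProduct.tmul_smul]
  | add a b ha hb => simp [TensorProduct.tmul_add, map_add, ha, hb]

theorem along_tensorConn {n : M →ₗ[A] M ⊗[B] Ω} {n' : M' →ₗ[A] M' ⊗[B] Ω}
    {n'' : M ⊗[B] M' →ₗ[A] (M ⊗[B] M') ⊗[B] Ω} (h : Conn.IsTensorConn n n' n'')
    (θ : Ω →ₗ[B] B) (m : M) (m' : M') :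
    Conn.along n'' θ (m ⊗ₜ m') = Conn.along n θ m ⊗ₜ m' + m ⊗ₜ Conn.along n' θ m' := by
  rw [along_eq_contr, h, map_add, contr_swapR, contr_assoc_symm]
  rfl

theorem along_isLamConn [Module A Ω] [IsScalarTower A B Ω] {δ : Derivation A B Ω} {lam : B}
    {n : M →ₗ[A] M ⊗[B] Ω} (h : Conn.IsLamConn δ lam n) (θ : Ω →ₗ[B] B) (b : B) (m : M) :
    Conn.along n θ (b • m) = b • Conn.along n θ m + (lam * θ (δ b)) • m := by
  rw [along_eq_contr, h, map_add, map_smul, map_smul, contr_tmul, smul_smul]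
  rfl

theorem along_isConn [Module A Ω] [IsScalarTower A B Ω] {δ : Derivation A B Ω}
    {n : M →ₗ[A] M ⊗[B] Ω} (h : Conn.IsConn δ n) (θ : Ω →ₗ[B] B) (b : B) (m : M) :
    Conn.along n θ (b • m) = b • Conn.along n θ m + θ (δ b) • m := by
  rw [along_eq_contr, h, map_add, map_smul, contr_tmul]
  rfl

theorem along_triv [Module A Ω] [IsScalarTower A B Ω] (δ : Derivation A B Ω) (θ : Ω →ₗ[B] B) (b : B) :
    Conn.along (Conn.triv δ) θ b = θ (δ b) := by
  rw [along_eq_contr, Conn.triv_apply, contr_tmul, smul_eq_mul, mul_one]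

theorem along_homConn_comp {M₁ M₂ M₃ : Type u} [AddCommGroup M₁] [Module B M₁] [Module A M₁] [IsScalarTower A B M₁]
    [AddCommGroup M₂] [Module B M₂] [Module A M₂] [IsScalarTower A B M₂]
    [AddCommGroup M₃] [Module B M₃] [Module A M₃] [IsScalarTower A B M₃]
    {n₁ : M₁ →ₗ[A] M₁ ⊗[B] Ω} {n₂ : M₂ →ₗ[A] M₂ ⊗[B] Ω} {n₃ : M₃ →ₗ[A] M₃ ⊗[B] Ω}
    {n12 : (M₁ →ₗ[B] M₂) →ₗ[A] (M₁ →ₗ[B] M₂) ⊗[B] Ω} {n23 : (M₂ →ₗ[B] M₃) →ₗ[A] (M₂ →ₗ[B] M₃) ⊗[B] Ω}
    {n13 : (M₁ →ₗ[B] M₃) →ₗ[A] (M₁ →ₗ[B] M₃) ⊗[B] Ω}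
    (h12 : Conn.IsHomConn n₁ n₂ n12) (h23 : Conn.IsHomConn n₂ n₃ n23) (h13 : Conn.IsHomConn n₁ n₃ n13)
    (θ : Ω →ₗ[B] B) (ψ : M₂ →ₗ[B] M₃) (φ : M₁ →ₗ[B] M₂) :
    Conn.along n13 θ (ψ ∘ₗ φ) = Conn.along n23 θ ψ ∘ₗ φ + ψ ∘ₗ Conn.along n12 θ φ := by
  ext m
  simp only [along_homConn h13, LinearMap.add_apply, LinearMap.comp_apply, along_homConn h23,
    along_homConn h12, map_sub]
  abel

theorem trace_horizontal [Module A Ω] [IsScalarTower A B Ω] [Module.Free B Ω] [Module.Free B M] [Module.Finite B M]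
    {δ : Derivation A B Ω} {n : M →ₗ[A] M ⊗[B] Ω} (hc : Conn.IsConn δ n)
    {nE : (M →ₗ[B] M) →ₗ[A] (M →ₗ[B] M) ⊗[B] Ω} (hE : Conn.IsHomConn n n nE) :
    Conn.IsHorizontal nE (Conn.triv δ) (LinearMap.trace B M) := by
  rw [isHorizontal_iff]
  intro θ φ
  classical
  rw [along_triv]
  let b := Module.Free.chooseBasis B M
  let L₀ : M →ₗ[B] M := b.constr B fun j => Conn.along n θ (b j)
  let N₀ : Matrix _ _ B := fun i j => θ (δ (b.repr (φ (b j)) i))
  have key : Conn.along nE θ φ = (L₀ ∘ₗ φ - φ ∘ₗ L₀) + Matrix.toLin b b N₀ := by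
    refine b.ext fun j => ?_
    rw [along_homConn hE, LinearMap.add_apply, LinearMap.sub_apply, LinearMap.comp_apply,
      LinearMap.comp_apply, Matrix.toLin_self]
    have h1 : L₀ (b j) = Conn.along n θ (b j) := b.constr_basis _ _ _
    rw [h1]
    have h2 : Conn.along n θ (φ (b j)) = L₀ (φ (b j)) + ∑ i, N₀ i j • b i := by
      conv_lhs => rw [← b.sum_repr (φ (b j))]
      conv_rhs => rw [← b.sum_repr (φ (b j))]
      simp only [map_sum, map_smul]
      rw [← Finset.sum_add_distrib]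
      refine Finset.sum_congr rfl fun i _ => ?_
      rw [along_isConn hc, b.constr_basis]
    rw [h2]
    abel
  rw [key, map_add, map_sub, LinearMap.trace_eq_matrix_trace B b (Matrix.toLin b b N₀),
    LinearMap.toMatrix_toLin, LinearMap.trace_eq_matrix_trace B b (L₀ ∘ₗ φ),
    LinearMap.trace_eq_matrix_trace B b (φ ∘ₗ L₀), LinearMap.toMatrix_comp b b b,
    LinearMap.toMatrix_comp b b b, Matrix.trace_mul_comm, sub_self, zero_add,
    LinearMap.trace_eq_matrix_trace B b φ]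
  simp only [Matrix.trace, Matrix.diag, LinearMap.toMatrix_apply, N₀, map_sum]

end Groth.Misc12
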