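import Groth.Prelude.Def_ConstAct2
import Groth.Prelude.Def_Hoch

set_option autoImplicit false

universe u w

namespace Groth.Misc12

open TensorProduct

variable {R : Type u} [CommRing R] {Γ : Type u} [Group Γ] [Fintype Γ] [DecidableEq Γ]
variable {X : Type w} [AddCommGroup X] [Module R X]

noncomputable def ct (g : Γ) : X ⊗[R] ConstGrp.F R Γ →ₗ[R] X :=
  (TensorProduct.rid R X).toLinearMap ∘ₗ (ConstGrp.ev R g).toLinearMap.lTensor X

@[simp] theorem ct_tmul (g : Γ) (x : X) (f : ConstGrp.F R Γ) : ct g (x ⊗ₜ[R] f) = f g • x := by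
  simp [ct]

theorem ct_sum_e (g : Γ) (c : Γ → X) : ct g (∑ h : Γ, c h ⊗ₜ[R] ConstGrp.e R h) = c g := by
  simp [ConstGrp.e_apply]

theorem eq_sum_ct (x : X ⊗[R] ConstGrp.F R Γ) : x = ∑ g : Γ, ct g x ⊗ₜ[R] ConstGrp.e R g := by
  induction x using TensorProduct.induction_on with
  | zero => simp
  | tmul a f =>
    simp only [ct_tmul, TensorProduct.smul_tmul]
    rw [← TensorProduct.tmul_sum, ← ConstGrp.eq_sum_smul_e]
  | add a b ha hb => simp only [map_add, TensorProduct.add_tmul, Finset.sum_add_distrib, ← ha, ← hb]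

theorem ct_ext {x y : X ⊗[R] ConstGrp.F R Γ} (h : ∀ g : Γ, ct g x = ct g y) : x = y := by
  rw [eq_sum_ct x, eq_sum_ct y]; simp [h]

end Groth.Misc12
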