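import Mathlib
import Groth.Agent.Variety2.DimScheme
import Groth.Agent.Variety2.DimFiber
import Groth.Agent.Variety2.IrrFibres

/-! Curves through a given point lying over a curve along a flat morphism. -/

set_option autoImplicit false
set_option linter.style.haveILetI false
universe u

open CategoryTheory AlgebraicGeometry TopologicalSpace

namespace Groth.Misc12.CurveLift

open Groth.Variety2.Dim

/-- In a Noetherian local domain of dimension at least two a nonzero element avoids some nonzero prime. -/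
theorem exists_ne_bot_not_mem {A : Type u} [CommRing A] [IsDomain A] [IsLocalRing A] [IsNoetherianRing A]
    {t : A} (ht : t ≠ 0) (h : ∃ Q : Ideal A, Q.IsPrime ∧ Q ≠ ⊥ ∧ Q ≠ IsLocalRing.maximalIdeal A) :
    ∃ Q : Ideal A, Q.IsPrime ∧ Q ≠ ⊥ ∧ t ∉ Q := by
  by_contra hall
  push Not at hall
  let F := (Ideal.span {t}).minimalPrimes
  have hsub : ((IsLocalRing.maximalIdeal A : Ideal A) : Set A) ⊆ ⋃ I ∈ F, ((I : Ideal A) : Set A) := by
    intro a ha
    rcases eq_or_ne a 0 with rfl | ha0
    · obtain ⟨I, hI⟩ := Ideal.nonempty_minimalPrimes (I := Ideal.span {t}) (fun htop => by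
        obtain ⟨Q, hQ, hQ0, -⟩ := h
        exact hQ.ne_top (top_le_iff.1 (htop ▸ (Ideal.span_singleton_le_iff_mem _).2 (hall Q hQ hQ0))))
      exact Set.mem_biUnion hI I.zero_mem
    · obtain ⟨I, hI, -⟩ := Ideal.exists_minimalPrimes_le (I := Ideal.span {a})
        (J := IsLocalRing.maximalIdeal A) ((Ideal.span_singleton_le_iff_mem _).2 ha)
      haveI := hI.1.1
      have haI : a ∈ I := hI.1.2 (Ideal.mem_span_singleton_self a)
      have hI0 : I ≠ ⊥ := fun hb => ha0 (by simpa [hb] using haI)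
      have htI : t ∈ I := hall I inferInstance hI0
      have hh := Ideal.height_le_one_of_isPrincipal_of_mem_minimalPrimes (Ideal.span {a}) I hI
      refine Set.mem_biUnion (x := I) ⟨⟨inferInstance, (Ideal.span_singleton_le_iff_mem _).2 htI⟩, ?_⟩ haI
      rintro J ⟨hJ, hJt⟩ hJI
      by_contra hne
      haveI : J.IsPrime := hJ
      have hlt : J < I := lt_of_le_not_ge hJI hne
      have h2 := Ideal.height_strict_mono_of_isPrime hlt
      have hJ0 : J ≠ ⊥ := fun hb => ht (by simpa [hb] using (Ideal.span_singleton_le_iff_mem _).1 hJt)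
      have h1 : (⊥ : Ideal A).height < J.height :=
        Ideal.height_strict_mono_of_isPrime (bot_lt_iff_ne_bot.2 hJ0)
      have : (1 : ℕ∞) ≤ J.height := Order.one_le_iff_pos.2 (bot_le.trans_lt h1)
      exact absurd (this.trans_lt (h2.trans_le hh)) (lt_irrefl _)
  obtain ⟨I, hI, hmI⟩ := (Ideal.subset_union_prime_finite
    (Ideal.finite_minimalPrimes_of_isNoetherianRing A _) ⊥ ⊥ (fun I hI _ _ => hI.1.1)).1 hsub
  haveI := hI.1.1
  obtain ⟨Q, hQ, hQ0, hQm⟩ := h
  have htQ := hall Q hQ hQ0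
  have hQI : Q ≤ I := (IsLocalRing.le_maximalIdeal hQ.ne_top).trans hmI
  have := hI.2 ⟨hQ, (Ideal.span_singleton_le_iff_mem _).2 htQ⟩ hQI
  exact hQm (le_antisymm (IsLocalRing.le_maximalIdeal hQ.ne_top) (hmI.trans this))

variable {k : Type u} [Field k] {Y Z : Scheme.{u}}

lemma finite_of_forall_closed [NoetherianSpace Y] {S : Set Y} (hS : IsClosed S)
    (h : ∀ w ∈ S, IsClosed ({w} : Set Y)) : S.Finite := by
  haveI : QuasiSober ↥S := hS.isClosedEmbedding_subtypeVal.quasiSober
  have hfin : {T | T ∈ irreducibleComponents ↥S}.Finite := NoetherianSpace.finite_irreducibleComponents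
  have hsing : ∀ T ∈ irreducibleComponents ↥S, T.Finite := fun T hT => by
    obtain ⟨w, hw⟩ := QuasiSober.sober hT.1 (isClosed_of_mem_irreducibleComponents T hT)
    have hc : IsClosed ({w} : Set ↥S) := by
      rw [show ({w} : Set ↥S) = Subtype.val ⁻¹' {(w : Y)} from Set.ext fun z => Subtype.ext_iff]
      exact (h w w.2).preimage continuous_subtype_val
    rw [← hw.def, hc.closure_eq]
    exact Set.finite_singleton w
  refine Set.finite_coe_iff.1 (Set.finite_univ_iff.1 ((hfin.biUnion hsing).subset fun w _ => ?_))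
  exact Set.mem_biUnion (irreducibleComponent_mem_irreducibleComponents w) mem_irreducibleComponent

theorem exists_curve (fY : Y ⟶ Spec (CommRingCat.of k)) [LocallyOfFiniteType fY] [QuasiCompact fY]
    (g : Z ⟶ Spec (CommRingCat.of k)) [LocallyOfFiniteType g] (f : Y ⟶ Z) (hf : f ≫ g = fY) [Flat f]
    [UniversallyClosed f]
    (B : Set Z) (hBc : IsClosed B) (hBi : IsIrreducible B) (hBd : topologicalKrullDim ↥B = 1)
    (p : Z) (hp : p ∈ B) (hpc : IsClosed ({p} : Set Z))
    (q : Y) (hqc : IsClosed ({q} : Set Y)) (hq : f q = p) :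
    ∃ B' : Set Y, IsClosed B' ∧ IsIrreducible B' ∧ q ∈ B' ∧ f '' B' = B ∧
      ∀ z : Z, (B' ∩ f ⁻¹' {z}).Finite := by
  haveI : IsNoetherian Y := by
    haveI := LocallyOfFiniteType.isLocallyNoetherian fY
    haveI : CompactSpace Y := QuasiCompact.compactSpace_of_compactSpace fY
    constructor
  obtain ⟨η, hη⟩ := QuasiSober.sober hBi hBc
  have hη1 : Order.height η = 1 := by
    rw [← hη.def, dim_closure_singleton] at hBd
    exact WithBot.coe_inj.1 hBd
  have hηc : ¬ IsClosed ({η} : Set Z) := fun hc => by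
    rw [(height_eq_zero_iff η).2 hc] at hη1
    exact zero_ne_one hη1
  have hηp : η ≠ p := fun h => hηc (h ▸ hpc)
  have hBpt : ∀ z ∈ B, z ≠ η → IsClosed ({z} : Set Z) := fun z hz hne => by
    rw [← height_eq_zero_iff]
    have hlt : z < η := by
      refine lt_of_le_not_ge (Scheme.le_iff_specializes.2 (hη.specializes hz)) fun h' => hne ?_
      exact ((Scheme.le_iff_specializes.1 h').antisymm (hη.specializes hz)).eq
    have h2 : Order.height z + 1 ≤ 1 := hη1 ▸ Order.height_add_one_le hlt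
    exact Order.lt_one_iff.1 ((ENat.add_one_le_iff (fun h => by rw [h] at h2; simp at h2)).1 h2)
  -- a function separating η from p
  obtain ⟨V, hV, hpV, -⟩ := exists_isAffineOpen_mem_and_subset (x := p) (U := (⊤ : Z.Opens)) trivial
  have hηV : η ∈ V := (hη.specializes hp).mem_open V.isOpen hpV
  obtain ⟨a, haW, hηa⟩ := hV.exists_basicOpen_le (V := ⟨({p} : Set Z)ᶜ, hpc.isOpen_compl⟩) ⟨η, hηp⟩ hηV
  have hqV : q ∈ f ⁻¹ᵁ V := show f q ∈ V by rw [hq]; exact hpV
  let b := f.app V a
  -- the candidates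
  let S : Set Y := {y | y ⤳ q ∧ f y = η}
  have hSb : ∀ y, y ⤳ q → f y ∈ B → (f y = η ↔ y ∈ Y.basicOpen b) := fun y hyq hyB => by
    rw [← Scheme.preimage_basicOpen]
    refine ⟨fun h => by show f y ∈ Z.basicOpen a; rw [h]; exact hηa, fun h => ?_⟩
    by_contra hne
    have h1 : f y ⤳ p := hq ▸ hyq.map f.continuous
    have h2 : p ∈ closure ({f y} : Set Z) := h1.mem_closure
    rw [(hBpt _ hyB hne).closure_eq] at h2
    exact haW h (Set.mem_singleton_iff.1 h2).symm
  obtain ⟨y₀, hy₀q, hy₀⟩ := Flat.generalizingMap f (show η ⤳ f q from hq ▸ hη.specializes hp)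
  obtain ⟨y, ⟨hyq, hyη⟩, hymin⟩ := WellFounded.has_min
    (InvImage.wf (fun z : Y => Order.height z) (wellFounded_lt (α := ℕ∞))) S ⟨y₀, hy₀q, hy₀⟩
  have hqy : q < y := lt_of_le_not_ge (Scheme.le_iff_specializes.2 hyq) fun h' => hηp (by
    rw [← hyη, ((Scheme.le_iff_specializes.1 h').antisymm hyq).eq.symm, hq])
  have hy1 : Order.height y = 1 := by
    by_cases hcov : q ⋖ y
    · rw [height_eq_of_covBy fY hcov, (height_eq_zero_iff q).2 hqc, zero_add]
    exfalso
    obtain ⟨z, hqz, hzy⟩ := (not_covBy_iff hqy).1 hcov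
    let R := Y.presheaf.stalk q
    have hgen : ∀ w, w ⤳ q → ∃ P : Spec R, Y.fromSpecStalk q P = w := fun w hw => by
      have : w ∈ Set.range (Y.fromSpecStalk q) := by rw [Scheme.range_fromSpecStalk]; exact hw
      exact this
    obtain ⟨P, hP⟩ := hgen y hyq
    obtain ⟨P', hP'⟩ := hgen z (Scheme.le_iff_specializes.1 hqz.le)
    let t : R := Y.presheaf.germ _ q hqV b
    have hmem : ∀ Q : Spec R, Y.fromSpecStalk q Q ∈ Y.basicOpen b ↔ t ∉ Q.asIdeal := fun Q => by
      change Q ∈ Y.fromSpecStalk q ⁻¹ᵁ Y.basicOpen b ↔ _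
      rw [Scheme.preimage_basicOpen, Scheme.fromSpecStalk_app hqV, CommRingCat.comp_apply,
        CommRingCat.comp_apply, Scheme.basicOpen_res, basicOpen_eq_of_affine]
      simp only [PrimeSpectrum.mem_basicOpen, Opens.mem_inf]
      refine ⟨fun h => h.2, fun h => ⟨?_, h⟩⟩
      have h0 : Y.fromSpecStalk q Q ∈ Set.range (Y.fromSpecStalk q) := ⟨Q, rfl⟩
      rw [Scheme.range_fromSpecStalk] at h0
      exact h0.mem_open (f ⁻¹ᵁ V).isOpen hqV
    have hle : ∀ Q Q' : Spec R, Y.fromSpecStalk q Q ⤳ Y.fromSpecStalk q Q' ↔ Q.asIdeal ≤ Q'.asIdeal :=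
      fun Q Q' => by
        rw [(Y.fromSpecStalk q).isEmbedding.isInducing.specializes_iff]
        exact (PrimeSpectrum.le_iff_specializes Q Q').symm
    have hyB : f y ∈ B := hyη ▸ hη.mem
    have hzB : ∀ w, y ⤳ w → f w ∈ B := fun w hw => (hw.map f.continuous).mem_closed hBc hyB
    have htP : t ∉ P.asIdeal := (hmem P).1 (hP ▸ (hSb y hyq hyB).1 hyη)
    have hPP' : P.asIdeal < P'.asIdeal := by
      refine lt_of_le_of_ne ((hle P P').1 (hP ▸ hP' ▸ Scheme.le_iff_specializes.1 hzy.le)) fun he => hzy.ne ?_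
      rw [← hP, ← hP', PrimeSpectrum.ext he]
    have hP'm : P'.asIdeal < IsLocalRing.maximalIdeal R := by
      refine lt_of_le_of_ne (IsLocalRing.le_maximalIdeal P'.2.ne_top) fun he => hqz.ne ?_
      rw [← hP', show P' = IsLocalRing.closedPoint R from PrimeSpectrum.ext he, Scheme.fromSpecStalk_closedPoint]
    let A := R ⧸ P.asIdeal
    haveI : IsLocalHom (Ideal.Quotient.mk P.asIdeal) := .of_surjective _ Ideal.Quotient.mk_surjective
    haveI : IsLocalRing A := IsLocalRing.of_surjective' (Ideal.Quotient.mk _) Ideal.Quotient.mk_surjective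
    have ht0 : Ideal.Quotient.mk P.asIdeal t ≠ 0 := fun h => htP (Ideal.Quotient.eq_zero_iff_mem.1 h)
    have hker : RingHom.ker (Ideal.Quotient.mk P.asIdeal) = P.asIdeal := Ideal.mk_ker
    obtain ⟨Q, hQ, hQ0, htQ⟩ := exists_ne_bot_not_mem ht0 ⟨P'.asIdeal.map (Ideal.Quotient.mk _),
      Ideal.map_isPrime_of_surjective Ideal.Quotient.mk_surjective (by rw [hker]; exact hPP'.le),
      fun h => hPP'.not_ge (by
        rw [Ideal.map_eq_bot_iff_le_ker, hker] at h; exact h),
      fun h => hP'm.ne (by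
        have := congrArg (Ideal.comap (Ideal.Quotient.mk P.asIdeal)) h
        rw [Ideal.comap_map_of_surjective _ Ideal.Quotient.mk_surjective, ← RingHom.ker_eq_comap_bot, hker,
          sup_eq_left.2 hPP'.le] at this
        rw [this]
        exact IsLocalRing.maximalIdeal_comap _)⟩
    let W : Spec R := ⟨Q.comap (Ideal.Quotient.mk P.asIdeal), Ideal.IsPrime.comap _⟩
    have hPW : P.asIdeal < W.asIdeal := by
      refine lt_of_le_of_ne (fun x hx => ?_) fun he => hQ0 ?_
      · show Ideal.Quotient.mk _ x ∈ Q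
        rw [Ideal.Quotient.eq_zero_iff_mem.2 hx]; exact Q.zero_mem
      · rw [← Ideal.map_comap_of_surjective _ Ideal.Quotient.mk_surjective Q, ← show P.asIdeal = Q.comap _ from he,
          Ideal.map_quotient_self]
    have hyw : y ⤳ Y.fromSpecStalk q W := hP ▸ (hle P W).2 hPW.le
    have hwq : Y.fromSpecStalk q W ⤳ q := by
      have : Y.fromSpecStalk q W ∈ Set.range (Y.fromSpecStalk q) := ⟨W, rfl⟩
      rwa [Scheme.range_fromSpecStalk] at this
    have hwη : f (Y.fromSpecStalk q W) = η := (hSb _ hwq (hzB _ hyw)).2 ((hmem W).2 htQ)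
    have hwlt : Y.fromSpecStalk q W < y := by
      refine lt_of_le_not_ge (Scheme.le_iff_specializes.2 hyw) fun h' => hPW.not_ge ?_
      exact (hle W P).1 (hP.symm ▸ Scheme.le_iff_specializes.1 h')
    exact hymin _ ⟨hwq, hwη⟩ (height_toNat_lt fY hwlt)
  have hclpt : ∀ w ∈ closure ({y} : Set Y), w ≠ y → IsClosed ({w} : Set Y) := fun w hw hne => by
    rw [← height_eq_zero_iff]
    have hlt : w < y := by
      refine lt_of_le_not_ge (Scheme.le_iff_specializes.2 (specializes_iff_mem_closure.2 hw)) fun h' => hne ?_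
      exact ((Scheme.le_iff_specializes.1 h').antisymm (specializes_iff_mem_closure.2 hw)).eq
    have h2 : Order.height w + 1 ≤ 1 := hy1 ▸ Order.height_add_one_le hlt
    exact Order.lt_one_iff.1 ((ENat.add_one_le_iff (fun h => by rw [h] at h2; simp at h2)).1 h2)
  have himg : f '' closure {y} = B := by
    refine le_antisymm ?_ ?_
    · rintro _ ⟨w, hw, rfl⟩
      exact ((specializes_iff_mem_closure.2 hw).map f.continuous).mem_closed hBc (hyη ▸ hη.mem)
    · rw [← hη.def]
      exact closure_minimal (Set.singleton_subset_iff.2 ⟨y, subset_closure rfl, hyη⟩)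
        (f.isClosedMap _ isClosed_closure)
  refine ⟨closure {y}, isClosed_closure, isIrreducible_singleton.closure,
    hyq.mem_closure, himg, fun z => ?_⟩
  by_cases hz : z ∈ B
  · by_cases hzη : z = η
    · refine (Set.finite_singleton y).subset fun w ⟨hw, hwz⟩ => ?_
      by_contra hne
      have := Groth.Variety2.Dim.isClosed_image_singleton fY g f hf (hclpt w hw hne)
      rw [show f w = η from hwz.trans hzη] at this
      exact hηc this
    · refine finite_of_forall_closed (isClosed_closure.inter ((hBpt z hz hzη).preimage f.continuous)) ?_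
      rintro w ⟨hw, hwz⟩
      refine hclpt w hw fun he => hzη ?_
      rw [← hyη, ← he]; exact hwz.symm
  · refine Set.finite_empty.subset fun w ⟨hw, hwz⟩ => hz ?_
    rw [← himg]
    exact ⟨w, hw, hwz⟩

end Groth.Misc12.CurveLift
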