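import Groth.Prelude.Def_Pi1
import Groth.Agent.GrpschAbsch.PerfectReduced
import Groth.Agent.RefRank.Algebra
import Mathlib

/-! Functions constant on fibres: algebra. -/

set_option autoImplicit false
set_option linter.style.haveILetI false
universe u

open TensorProduct

namespace Groth.Misc12.DescendFunction

/-- In characteristic zero an element with `s ⊗ 1 - 1 ⊗ s` nilpotent lies in the base field. -/
theorem mem_range_of_isNilpotent {K L : Type u} [Field K] [CharZero K] [Field L] [Algebra K L] (s : L)
    (h : IsNilpotent (s ⊗ₜ[K] (1 : L) - (1 : L) ⊗ₜ[K] s)) : s ∈ (algebraMap K L).range := by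
  classical
  let S := Algebra.adjoin K ({s} : Set L)
  let t : S := ⟨s, Algebra.subset_adjoin rfl⟩
  have hred : IsReduced (S ⊗[K] S) := by
    by_cases hs : IsAlgebraic K s
    · have hi : IsIntegral K s := hs.isIntegral
      haveI : Algebra.IsIntegral K S := Algebra.IsIntegral.adjoin (by simpa using hi)
      letI : Field S := (isField_of_isIntegral_of_isField' (Field.toIsField K) : IsField S).toField
      haveI : FiniteDimensional K S := Module.Finite.iff_fg.2 (hi.fg_adjoin_singleton)
      haveI : Algebra.IsSeparable K S := Algebra.IsAlgebraic.isSeparable_of_perfectField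
      exact Groth.GrpschAbsch.isReduced_tensor_of_isSeparable (k := K) (A := S) (L := S)
    · have hinj : Function.Injective (Polynomial.aeval (R := K) s) := transcendental_iff_injective.1 hs
      let e : Polynomial K ≃ₐ[K] S :=
        (AlgEquiv.ofInjective _ hinj).trans (Subalgebra.equivOfEq _ _ (Algebra.adjoin_singleton_eq_range_aeval K s).symm)
      let e' : Polynomial S ≃ₐ[K] S ⊗[K] S :=
        ((polyEquivTensor K S).restrictScalars K).trans (Algebra.TensorProduct.congr AlgEquiv.refl e)
      exact isReduced_of_injective e'.symm e'.symm.injective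
  have hτ : Function.Injective (TensorProduct.map S.val.toLinearMap S.val.toLinearMap) :=
    TensorProduct.map_injective_of_flat_flat _ _ Subtype.val_injective Subtype.val_injective
  let τ : S ⊗[K] S →ₐ[K] L ⊗[K] L := Algebra.TensorProduct.map S.val S.val
  have hτ' : Function.Injective τ := hτ
  have h1 : τ (t ⊗ₜ 1 - 1 ⊗ₜ t) = s ⊗ₜ (1 : L) - (1 : L) ⊗ₜ s := by simp [τ, t]
  have h2 : IsNilpotent (t ⊗ₜ[K] (1 : S) - (1 : S) ⊗ₜ[K] t) := by
    obtain ⟨n, hn⟩ := h
    exact ⟨n, hτ' (by rw [map_pow, h1, hn, map_zero])⟩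
  have h3 : s ⊗ₜ[K] (1 : L) = (1 : L) ⊗ₜ[K] s := by
    have h4 := congrArg τ (sub_eq_zero.1 h2.eq_zero)
    simpa [τ, t] using h4
  by_contra hs
  obtain ⟨φ, hφs, hφ⟩ := Submodule.exists_dual_map_eq_bot_of_notMem
    (R := K) (M := L) (p := Submodule.span K {(1 : L)}) (x := s) (fun h => hs (by
      obtain ⟨a, ha⟩ := Submodule.mem_span_singleton.1 h
      exact ⟨a, by rw [← ha, Algebra.smul_def, mul_one]⟩)) inferInstance
  have hφ1 : φ 1 = 0 := by
    have : φ 1 ∈ (Submodule.span K {(1 : L)}).map φ := ⟨1, Submodule.mem_span_singleton_self _, rfl⟩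
    rw [hφ] at this
    exact (Submodule.mem_bot K).1 this
  have := congrArg (fun z => TensorProduct.rid K L (φ.lTensor L z)) h3
  simp [hφ1] at this
  exact hφs ((smul_eq_zero.1 this.symm).resolve_right one_ne_zero)

/-- In a Noetherian normal local domain of dimension one, one of two elements divides the other. -/
theorem dvd_or_dvd {R : Type u} [CommRing R] [IsDomain R] [IsNoetherianRing R] [IsLocalRing R]
    [IsIntegrallyClosed R] (h : ringKrullDim R = 1) (a b : R) : a ∣ b ∨ b ∣ a := by
  have hf : ¬ IsField R := fun hf => by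
    rw [ringKrullDim_eq_zero_of_isField hf] at h
    exact zero_ne_one h
  have hbot : IsLocalRing.maximalIdeal R ≠ ⊥ := IsLocalRing.isField_iff_maximalIdeal_eq.not.1 hf
  haveI : Ring.KrullDimLE 1 R := (Ring.krullDimLE_iff).2 h.le
  haveI : ValuationRing R := ((IsDiscreteValuationRing.TFAE R hf).out 3 1 rfl rfl).1
    ⟨inferInstance, IsLocalRing.maximalIdeal R, ⟨hbot, inferInstance⟩, fun P hP => by
      haveI := hP.2
      exact IsLocalRing.eq_maximalIdeal ((Ring.krullDimLE_one_iff_of_noZeroDivisors.1 inferInstance) P hP.1 hP.2)⟩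
  exact ValuationRing.dvd_total a b

end Groth.Misc12.DescendFunction
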