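import Mathlib
import Groth.Agent.NeronArea.EtaleCodimTwo
import Groth.Agent.NeronArea.SmoothLocusNMP
import Groth.Agent.VarietyBC.ZMTIso
import Groth.Agent.Variety2.DimScheme
import Groth.Agent.AlgSp2.MonoPoint

/-! The exceptional locus of a birational proper morphism of smooth varieties is a divisor. -/

set_option autoImplicit false
set_option linter.style.haveILetI false
universe u

open CategoryTheory Limits AlgebraicGeometry TopologicalSpace

namespace Groth.Misc12.ExcDivisor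

open Groth.NeronArea.EtaleCodimTwo

/-- A morphism of smooth schemes, étale on an open of the source containing the points of
codimension at most one, is étale. -/
theorem etale_of_smooth {S X Y : Scheme.{u}} [IsLocallyNoetherian S] (p : X ⟶ S) (q : Y ⟶ S)
    (f : X ⟶ Y) (hfq : f ≫ q = p) [Smooth p] [Smooth q] (X₁ : X.Opens)
    (hcodim : ∀ z : X, z ∉ X₁ → (2 : WithBot ℕ∞) ≤ ringKrullDim (X.presheaf.stalk z))
    (hf : Etale (X₁.ι ≫ f)) : Etale f := by
  rw [HasRingHomProperty.iff_exists_appLE (P := @Etale)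
    (RingHom.Etale.stableUnderComposition.stableUnderCompositionWithLocalizationAway (fun _ _ _ _ _ r _ => RingHom.etale_algebraMap.mpr (Algebra.Etale.of_isLocalizationAway r))).left]
  intro x
  obtain ⟨U, hU, hxU, -⟩ := exists_isAffineOpen_mem_and_subset (X := S) (x := p x)
    (U := ⊤) trivial
  have hxq : f x ∈ q ⁻¹ᵁ U := by
    show q (f x) ∈ U
    rw [← Scheme.Hom.comp_apply, hfq]
    exact hxU
  obtain ⟨V, hV, hxV, hVU⟩ := exists_isAffineOpen_mem_and_subset (X := Y) (x := f x) hxq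
  obtain ⟨W, hW, hxW, hWV⟩ := exists_isAffineOpen_mem_and_subset (X := X) (x := x)
    (U := f ⁻¹ᵁ V) hxV
  refine ⟨⟨V, hV⟩, ⟨W, hW⟩, hxW, hWV, ?_⟩
  haveI : IsNoetherianRing Γ(S, U) := IsLocallyNoetherian.component_noetherian ⟨U, hU⟩
  have hWU : W ≤ p ⁻¹ᵁ U := fun w hw => by
    show p w ∈ U
    rw [← hfq, Scheme.Hom.comp_apply]
    exact hVU (hWV hw)
  algebraize [(q.appLE U V hVU).hom, (p.appLE U W hWU).hom, (f.appLE V W hWV).hom]
  haveI : IsScalarTower Γ(S, U) Γ(Y, V) Γ(X, W) := .of_algebraMap_eq' (by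
    show (p.appLE U W hWU).hom = _
    subst hfq
    rw [← Scheme.Hom.appLE_comp_appLE f q U V W hVU hWV]
    rfl)
  haveI : Algebra.Smooth Γ(S, U) Γ(Y, V) := q.smooth_appLE hU hV hVU
  haveI : Algebra.Smooth Γ(S, U) Γ(X, W) := p.smooth_appLE hU hW hWU
  haveI : IsNoetherianRing Γ(X, W) := Algebra.FiniteType.isNoetherianRing Γ(S, U) Γ(X, W)
  haveI : Algebra.FinitePresentation Γ(Y, V) Γ(X, W) :=
    .of_restrict_scalars_finitePresentation Γ(S, U) Γ(Y, V) Γ(X, W)
  show Algebra.Etale Γ(Y, V) Γ(X, W)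
  rw [← Algebra.etaleLocus_eq_univ_iff_etale, Set.eq_univ_iff_forall]
  intro P
  refine isEtaleAt_of_height_le_one (R := Γ(S, U)) P.asIdeal fun r _ hr => ?_
  let y : X := hW.fromSpec ⟨r, inferInstance⟩
  have hyW : y ∈ W := by
    have hm : y ∈ Set.range hW.fromSpec := Set.mem_range_self _
    rwa [hW.range_fromSpec] at hm
  have hyr : hW.primeIdealOf ⟨y, hyW⟩ = ⟨r, inferInstance⟩ :=
    hW.isOpenImmersion_fromSpec.base_open.injective (hW.fromSpec_primeIdealOf ⟨y, hyW⟩)
  have hs : y ∈ X₁ := by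
    by_contra hs
    have h2 := hcodim _ hs
    letI : Algebra Γ(X, W) (X.presheaf.stalk y) :=
      TopCat.Presheaf.algebra_section_stalk X.presheaf ⟨y, hyW⟩
    haveI : IsLocalization.AtPrime (X.presheaf.stalk y) (hW.primeIdealOf ⟨y, hyW⟩).asIdeal :=
      hW.isLocalization_stalk ⟨y, hyW⟩
    rw [IsLocalization.AtPrime.ringKrullDim_eq_height (hW.primeIdealOf ⟨y, hyW⟩).asIdeal
      (X.presheaf.stalk y), hyr] at h2
    exact absurd (h2.trans (WithBot.coe_le_coe.2 hr)) (by decide)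
  obtain ⟨a, haS, hya⟩ := hW.exists_basicOpen_le (V := X₁) ⟨y, hs⟩ hyW
  have hD : X.basicOpen a ≤ f ⁻¹ᵁ V := (X.basicOpen_le a).trans hWV
  have hetD : Etale (f.resLE V (X.basicOpen a) hD) := by
    haveI : Etale (f.resLE V (X.basicOpen a) hD ≫ V.ι) := by
      rw [Scheme.Hom.resLE_comp_ι, ← Scheme.homOfLE_ι X haS, Category.assoc]
      infer_instance
    exact MorphismProperty.of_postcomp @Etale (W' := @LocallyOfFiniteType ⊓ @FormallyUnramified)
      _ V.ι ⟨inferInstance, inferInstance⟩ inferInstance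
  haveI : IsAffine (X.basicOpen a).toScheme := hW.basicOpen a
  haveI : IsAffine V.toScheme := hV
  have hDe : (f.appLE V (X.basicOpen a) hD).hom.Etale := by
    rw [HasRingHomProperty.iff_of_isAffine (P := @Etale)] at hetD
    have h1 := RingHom.Etale.respectsIso.1 _ (X.basicOpen a).topIso.commRingCatIsoToRingEquiv
      (RingHom.Etale.respectsIso.2 _ V.topIso.symm.commRingCatIsoToRingEquiv hetD)
    have he : f.appLE V (X.basicOpen a) hD = V.topIso.inv ≫
        (f.resLE V (X.basicOpen a) hD).appTop ≫ (X.basicOpen a).topIso.hom := by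
      rw [show (f.resLE V (X.basicOpen a) hD).appTop = _ from Scheme.Hom.resLE_app_top f hD,
        Category.assoc, Category.assoc, Iso.inv_hom_id_assoc, Iso.inv_hom_id, Category.comp_id]
    rw [he]
    exact h1
  letI : Algebra Γ(X, W) Γ(X, X.basicOpen a) :=
    (X.presheaf.map (homOfLE (X.basicOpen_le a)).op).hom.toAlgebra
  haveI : IsLocalization.Away a Γ(X, X.basicOpen a) := hW.isLocalization_basicOpen a
  letI : Algebra Γ(Y, V) Γ(X, X.basicOpen a) := (f.appLE V (X.basicOpen a) hD).hom.toAlgebra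
  haveI : IsScalarTower Γ(Y, V) Γ(X, W) Γ(X, X.basicOpen a) := .of_algebraMap_eq' (by
    show (f.appLE V (X.basicOpen a) hD).hom = (f.appLE V W hWV ≫ X.presheaf.map _).hom
    rw [Scheme.Hom.appLE_map])
  haveI : Algebra.Etale Γ(Y, V) Γ(X, X.basicOpen a) := hDe
  haveI : Algebra.Etale Γ(Y, V) (Localization.Away a) :=
    Algebra.Etale.of_equiv ((IsLocalization.algEquiv (Submonoid.powers a)
      Γ(X, X.basicOpen a) (Localization.Away a)).restrictScalars Γ(Y, V))
  refine (Algebra.basicOpen_subset_etaleLocus_iff_etale.2 ‹_› :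
    _ ⊆ Algebra.etaleLocus Γ(Y, V) Γ(X, W)) (show (⟨r, inferInstance⟩ : PrimeSpectrum Γ(X, W)) ∈ _ from ?_)
  have := hW.fromSpec_preimage_basicOpen a
  rw [← this]
  exact hya

lemma isNormalScheme_spec (k : Type u) [Field k] : Pi1.IsNormalScheme (Spec (CommRingCat.of k)) := by
  intro x
  haveI : Subsingleton (Spec (CommRingCat.of k)) := inferInstanceAs (Subsingleton (PrimeSpectrum k))
  rw [Subsingleton.elim x (genericPoint _)]
  exact ⟨inferInstanceAs (IsDomain (Spec (CommRingCat.of k)).functionField),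
    inferInstanceAs (IsIntegrallyClosed (Spec (CommRingCat.of k)).functionField)⟩

variable {X Y : Scheme.{u}}

/-- The locus of the target over which a morphism is an isomorphism. -/
def isoLocus (f : X ⟶ Y) : Y.Opens := sSup {V | IsIso (f ∣_ V)}

lemma mem_isoLocus {f : X ⟶ Y} {y : Y} : y ∈ isoLocus f ↔ ∃ V : Y.Opens, y ∈ V ∧ IsIso (f ∣_ V) := by
  rw [isoLocus, Opens.mem_sSup]
  exact ⟨fun ⟨V, h, hy⟩ => ⟨V, hy, h⟩, fun ⟨V, hy, h⟩ => ⟨V, h, hy⟩⟩

lemma etale_preimage_isoLocus (f : X ⟶ Y) : Etale ((f ⁻¹ᵁ isoLocus f).ι ≫ f) := by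
  choose V hV hiso using fun z : ↥(f ⁻¹ᵁ isoLocus f) => mem_isoLocus.1 z.2
  rw [IsZariskiLocalAtSource.iff_of_iSup_eq_top (P := @Etale)
    (fun z => (f ⁻¹ᵁ isoLocus f).ι ⁻¹ᵁ f ⁻¹ᵁ V z)
    (eq_top_iff.2 fun z _ => Opens.mem_iSup.2 ⟨z, hV z⟩)]
  intro z
  have hle : f ⁻¹ᵁ V z ≤ f ⁻¹ᵁ isoLocus f := f.preimage_mono (le_sSup (hiso z))
  haveI := hiso z
  have h : Etale ((f ⁻¹ᵁ V z).ι ≫ f) := by
    rw [← morphismRestrict_ι]; infer_instance
  let j := IsOpenImmersion.lift (f ⁻¹ᵁ V z).ι (((f ⁻¹ᵁ isoLocus f).ι ⁻¹ᵁ f ⁻¹ᵁ V z).ι ≫ (f ⁻¹ᵁ isoLocus f).ι) (by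
    rintro _ ⟨w, rfl⟩
    rw [Scheme.Opens.range_ι]
    exact w.2)
  have hj : j ≫ (f ⁻¹ᵁ V z).ι = ((f ⁻¹ᵁ isoLocus f).ι ⁻¹ᵁ f ⁻¹ᵁ V z).ι ≫ (f ⁻¹ᵁ isoLocus f).ι :=
    IsOpenImmersion.lift_fac _ _ _
  haveI : IsOpenImmersion (j ≫ (f ⁻¹ᵁ V z).ι) := hj ▸ inferInstance
  haveI : IsOpenImmersion j := IsOpenImmersion.of_comp j (f ⁻¹ᵁ V z).ι
  rw [← Category.assoc, ← hj, Category.assoc]
  infer_instance

theorem dim_component (k : Type u) [Field k] (qX : X ⟶ Spec (CommRingCat.of k))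
    (qY : Y ⟶ Spec (CommRingCat.of k)) [IsIntegral X] [IsIntegral Y] [LocallyOfFiniteType qX]
    [QuasiCompact qX] [Smooth qX] [Smooth qY] (f : X ⟶ Y) (hf : f ≫ qY = qX) [IsProper f]
    (hbir : ∃ V : Y.Opens, (V : Set Y).Nonempty ∧ IsIso (f ∣_ V)) (E : Set X)
    (hE : ∀ x, x ∈ E ↔ f x ∉ isoLocus f) :
    ∀ Z ∈ irreducibleComponents ↥E, topologicalKrullDim ↥Z + 1 = topologicalKrullDim X := by
  intro Z hZ
  obtain ⟨W₀, hW₀, hiso₀⟩ := hbir
  have hEc : IsClosed E := by
    rw [show E = ((f ⁻¹ᵁ isoLocus f : X.Opens) : Set X)ᶜ from Set.ext hE]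
    exact (f ⁻¹ᵁ isoLocus f).isOpen.isClosed_compl
  haveI : IsNoetherian X := by
    haveI := LocallyOfFiniteType.isLocallyNoetherian qX
    haveI : CompactSpace X := QuasiCompact.compactSpace_of_compactSpace qX
    constructor
  haveI : QuasiSober ↥E := hEc.isClosedEmbedding_subtypeVal.quasiSober
  obtain ⟨x, hxg⟩ := QuasiSober.sober hZ.1 (isClosed_of_mem_irreducibleComponents Z hZ)
  have hxE : (x : X) ∈ E := x.2
  -- the other components
  let O : Set ↥E := ⋃ T ∈ irreducibleComponents ↥E \ {Z}, T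
  have hOc : IsClosed O :=
    ((NoetherianSpace.finite_irreducibleComponents).subset Set.sdiff_subset).isClosed_biUnion
      fun T hT => isClosed_of_mem_irreducibleComponents T hT.1
  have hxO : x ∉ O := fun hx => by
    obtain ⟨T, ⟨hT, hTZ⟩, hxT⟩ := Set.mem_iUnion₂.1 hx
    have hle : Z ⊆ T := hxg.def ▸ closure_minimal (Set.singleton_subset_iff.2 hxT) (isClosed_of_mem_irreducibleComponents T hT)
    exact hTZ (le_antisymm (hZ.2 hT.1 hle) hle)
  have hOX : IsClosed (Subtype.val '' O) := hEc.isClosedEmbedding_subtypeVal.isClosedMap _ hOc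
  obtain ⟨W, hW, hxW, hWO⟩ := exists_isAffineOpen_mem_and_subset (x := (x : X))
    (U := ⟨(Subtype.val '' O)ᶜ, hOX.isOpen_compl⟩) (fun ⟨y, hy, e⟩ => hxO (Subtype.ext e ▸ hy))
  have hspec : ∀ y : X, y ∈ W → y ∈ E → (x : X) ⤳ y := fun y hyW hyE => by
    obtain ⟨T, hT, hyT⟩ : ∃ T ∈ irreducibleComponents ↥E, (⟨y, hyE⟩ : E) ∈ T :=
      ⟨irreducibleComponent _, irreducibleComponent_mem_irreducibleComponents _, mem_irreducibleComponent⟩
    by_cases hTZ : T = Z
    · exact (hxg.specializes (hTZ ▸ hyT)).map continuous_subtype_val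
    · exact absurd ⟨_, Set.mem_biUnion ⟨hT, hTZ⟩ hyT, rfl⟩ (hWO hyW)
  have hnq : ¬ f.QuasiFiniteAt (x : X) := fun hq => by
    haveI := (Groth.NeronArea.isNormalScheme_of_smooth qY (isNormalScheme_spec k) (f (x : X))).2
    obtain ⟨V, hV, hi⟩ := Groth.VarietyBC.exists_isIso_of_quasiFiniteAt f hW₀ (f (x : X)) (x : X) rfl hq
    exact (hE _).1 hxE (mem_isoLocus.2 ⟨V, hV, hi⟩)
  have hone : ringKrullDim (X.presheaf.stalk (x : X)) = 1 := by
    have hlt : ringKrullDim (X.presheaf.stalk (x : X)) < 2 := by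
      by_contra hge
      rw [not_lt] at hge
      let X₁ : (W : Scheme.{u}).Opens := W.ι ⁻¹ᵁ f ⁻¹ᵁ isoLocus f
      have hcod : ∀ z : (W : Scheme.{u}), z ∉ X₁ → (2 : WithBot ℕ∞) ≤ ringKrullDim ((W : Scheme.{u}).presheaf.stalk z) := by
        intro z hz
        have hzE : (z.1 : X) ∈ E := (hE _).2 hz
        have h1 : ringKrullDim (X.presheaf.stalk (x : X)) ≤ ringKrullDim (X.presheaf.stalk z.1) := by
          rw [ringKrullDim_stalk_eq_coheight, ringKrullDim_stalk_eq_coheight, WithBot.coe_le_coe]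
          exact Order.coheight_anti (Scheme.le_iff_specializes.2 (hspec _ z.2 hzE))
        refine (hge.trans h1).trans (le_of_eq ?_)
        exact ringKrullDim_eq_of_ringEquiv
          (asIso (W.ι.stalkMap z)).commRingCatIsoToRingEquiv
      have hfac : Etale (X₁.ι ≫ W.ι ≫ f) := by
        haveI := etale_preimage_isoLocus f
        let j := IsOpenImmersion.lift (f ⁻¹ᵁ isoLocus f).ι (X₁.ι ≫ W.ι) (by
          rintro _ ⟨w, rfl⟩
          rw [Scheme.Opens.range_ι]
          exact w.2)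
        have hj : j ≫ (f ⁻¹ᵁ isoLocus f).ι = X₁.ι ≫ W.ι := IsOpenImmersion.lift_fac _ _ _
        haveI : IsOpenImmersion (j ≫ (f ⁻¹ᵁ isoLocus f).ι) := hj ▸ inferInstance
        haveI : IsOpenImmersion j := IsOpenImmersion.of_comp j (f ⁻¹ᵁ isoLocus f).ι
        rw [← Category.assoc, ← hj, Category.assoc]
        infer_instance
      haveI : Etale (W.ι ≫ f) :=
        etale_of_smooth (S := Spec (CommRingCat.of k)) (W.ι ≫ qX) qY (W.ι ≫ f)
          (by rw [Category.assoc, hf]) X₁ hcod hfac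
      haveI := Groth.AlgSp2.locallyQuasiFinite_of_etale (W.ι ≫ f)
      refine hnq (Scheme.Hom.mem_quasiFiniteLocus.1 ?_)
      have h2 := (W.ι ≫ f).quasiFiniteLocus_eq_top
      rw [Scheme.Hom.quasiFiniteLocus_comp] at h2
      exact (h2.ge (Opens.mem_top (⟨x, hxW⟩ : W)) : _)
    have hne : ringKrullDim (X.presheaf.stalk (x : X)) ≠ 0 := by
      rw [ringKrullDim_stalk_eq_coheight, ← WithBot.coe_zero, Ne, WithBot.coe_inj, Order.coheight_eq_zero]
      intro hmax
      have hg : (x : X) = genericPoint X := by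
        refine Specializes.antisymm (?_ : (x : X) ⤳ genericPoint X) (genericPoint_specializes _) |>.eq
        exact Scheme.le_iff_specializes.1 (hmax (Scheme.le_iff_specializes.2 (genericPoint_specializes _)))
      refine (hE _).1 hxE (mem_isoLocus.2 ⟨W₀, ?_, hiso₀⟩)
      rw [hg, Groth.VarietyBC.base_genericPoint_of_isIso f hW₀]
      exact ((genericPoint_spec Y).mem_open_set_iff W₀.isOpen).2 (by simpa using hW₀)
    rw [ringKrullDim_stalk_eq_coheight] at hlt hne ⊢
    generalize Order.coheight (x : X) = c at hlt hne ⊢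
    cases c with
    | top => exact absurd hlt (by decide)
    | coe n =>
      have h2' : ((n : ℕ∞)) < 2 := WithBot.coe_lt_coe.1 hlt
      have h2 : n < 2 := by exact_mod_cast h2'
      have h0 : n ≠ 0 := fun h => hne (by subst h; rfl)
      have : n = 1 := by omega
      subst this; rfl
  have hdimZ : topologicalKrullDim ↥Z = (Order.height (x : X) : ℕ∞) := by
    have himg : Subtype.val '' Z = closure ({(x : X)} : Set X) := by
      rw [← hxg.def, ← hEc.isClosedEmbedding_subtypeVal.closure_image_eq, Set.image_singleton]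
    rw [← Groth.Variety2.Dim.dim_closure_singleton,
      ← (Homeomorph.setCongr himg).isHomeomorph.topologicalKrullDim_eq,
      ← ((Topology.IsEmbedding.subtypeVal (p := (· ∈ E))).homeomorphImage Z).isHomeomorph.topologicalKrullDim_eq]
  rw [hdimZ, ← Groth.Variety2.Dim.ringKrullDim_stalk_add_height qX (x : X), hone, add_comm]

end Groth.Misc12.ExcDivisor
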