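import Groth.Agent.Misc12.SectionsField
import Mathlib

/-! A quasi-compact scheme over a field and the spectrum of its ring of global functions. -/

set_option autoImplicit false
set_option linter.style.haveILetI false
universe u

open CategoryTheory Limits MonoidalCategory CartesianMonoidalCategory AlgebraicGeometry

noncomputable section

namespace Groth.Misc12.HomToAffine

variable {k : Type u} [Field k] (X : Over (Spec (CommRingCat.of k)))

/-- The ring map from the field to the global functions. -/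
def str : CommRingCat.of k ⟶ Γ(X.left, ⊤) := (Scheme.ΓSpecIso (CommRingCat.of k)).inv ≫ X.hom.appTop

/-- The spectrum of the global functions. -/
abbrev hull : Over (Spec (CommRingCat.of k)) := Over.mk (Spec.map (str X))

/-- The canonical morphism to the spectrum of the global functions. -/
def toHull : X ⟶ hull X := Over.homMk X.left.toSpecΓ (by
  refine ext_of_isAffine ?_
  simp [str])

lemma isIso_toHull_appTop : IsIso ((toHull X).left).appTop := by
  change IsIso X.left.toSpecΓ.appTop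
  rw [Scheme.toSpecΓ_appTop]
  infer_instance

section

variable (T : Over (Spec (CommRingCat.of k)))

/-- The product of `toHull` with `T`. -/
abbrev cmpT : pullback X.hom T.hom ⟶ pullback (hull X).hom T.hom := (toHull X ▷ T).left

lemma cT_snd : (cmpT X T) ≫ (pullback.snd (hull X).hom T.hom) = (pullback.snd X.hom T.hom) := congrArg (fun z ↦ z.left) (whiskerRight_snd (toHull X) T)

lemma cT_fst : (cmpT X T) ≫ pullback.fst (hull X).hom T.hom = pullback.fst X.hom T.hom ≫ (toHull X).left :=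
  congrArg (fun z ↦ z.left) (whiskerRight_fst (toHull X) T)

lemma le_preimage (U : T.left.Opens) : (pullback.snd X.hom T.hom) ⁻¹ᵁ U ≤ (cmpT X T) ⁻¹ᵁ ((pullback.snd (hull X).hom T.hom) ⁻¹ᵁ U) := by
  rw [← Scheme.Hom.comp_preimage]
  exact le_of_eq (by rw [cT_snd])

lemma isIso_appLE [CompactSpace ↥X.left] {U : T.left.Opens} (hU : IsAffineOpen U) :
    IsIso (Scheme.Hom.appLE (cmpT X T) ((pullback.snd (hull X).hom T.hom) ⁻¹ᵁ U) ((pullback.snd X.hom T.hom) ⁻¹ᵁ U) (le_preimage X T U)) := by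
  have hk : IsField Γ(Spec (CommRingCat.of k), ⊤) :=
    MulEquiv.isField (Field.toIsField k)
      (Scheme.ΓSpecIso (CommRingCat.of k)).commRingCatIsoToRingEquiv.toMulEquiv
  haveI : Flat T.hom := inferInstance
  have H : IsPullback (pullback.fst X.hom T.hom) (pullback.snd X.hom T.hom) X.hom T.hom := IsPullback.of_hasPullback _ _
  have H₀ : IsPullback (pullback.fst (hull X).hom T.hom) (pullback.snd (hull X).hom T.hom) (hull X).hom T.hom :=
    IsPullback.of_hasPullback _ _
  have hUS : U ≤ T.hom ⁻¹ᵁ ⊤ := by simp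
  have hX : (⊤ : X.left.Opens) ≤ X.hom ⁻¹ᵁ ⊤ := by simp
  have hX₀ : (⊤ : (hull X).left.Opens) ≤ (hull X).hom ⁻¹ᵁ ⊤ := by simp
  have hY : (pullback.snd X.hom T.hom) ⁻¹ᵁ U = pullback.fst X.hom T.hom ⁻¹ᵁ ⊤ ⊓ (pullback.snd X.hom T.hom) ⁻¹ᵁ U := by simp
  have hY₀ : (pullback.snd (hull X).hom T.hom) ⁻¹ᵁ U = pullback.fst (hull X).hom T.hom ⁻¹ᵁ ⊤ ⊓ (pullback.snd (hull X).hom T.hom) ⁻¹ᵁ U := by simp
  haveI := SectionsField.isIso_pushoutSection H hUS hX hY (isAffineOpen_top _) hU hk CompactSpace.isCompact_univ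
  haveI : IsAffine (hull X).left := inferInstanceAs (IsAffine (Spec _))
  haveI := isIso_pushoutSection_of_isAffineOpen H₀ hUS hX₀ hY₀ (isAffineOpen_top _) hU (isAffineOpen_top _)
  have hT : (⊤ : X.left.Opens) ≤ (toHull X).left ⁻¹ᵁ ⊤ := by simp
  haveI : IsIso ((toHull X).left.appLE ⊤ ⊤ hT) := by
    have e : (toHull X).left.appLE ⊤ ⊤ hT = (toHull X).left.appTop := Scheme.Hom.appLE_eq_app _
    rw [e]
    exact isIso_toHull_appTop X
  let m : pushout ((hull X).hom.appLE ⊤ ⊤ hX₀) (T.hom.appLE ⊤ U hUS) ⟶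
      pushout (X.hom.appLE ⊤ ⊤ hX) (T.hom.appLE ⊤ U hUS) :=
    pushout.map _ _ _ _ ((toHull X).left.appLE ⊤ ⊤ hT) (𝟙 _) (𝟙 _) (by
      rw [Category.id_comp, Scheme.Hom.appLE_comp_appLE]
      simp only [Over.w (toHull X)]) (by simp)
  have h : pushoutSection H₀ hUS hX₀ hY₀ ≫ Scheme.Hom.appLE (cmpT X T) ((pullback.snd (hull X).hom T.hom) ⁻¹ᵁ U) ((pullback.snd X.hom T.hom) ⁻¹ᵁ U) (le_preimage X T U) =
      m ≫ pushoutSection H hUS hX hY := by
    apply pushout.hom_ext
    · simp only [m, pushoutSection, pushout.map, pushout.inl_desc_assoc, Category.assoc, pushout.inl_desc,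
        Scheme.Hom.appLE_comp_appLE, cT_fst]
    · simp only [m, pushoutSection, pushout.map, pushout.inr_desc_assoc, Category.assoc, pushout.inr_desc,
        Category.id_comp, Scheme.Hom.appLE_comp_appLE, cT_snd]
  haveI : IsIso (pushoutSection H₀ hUS hX₀ hY₀ ≫ Scheme.Hom.appLE (cmpT X T) ((pullback.snd (hull X).hom T.hom) ⁻¹ᵁ U) ((pullback.snd X.hom T.hom) ⁻¹ᵁ U) (le_preimage X T U)) := by
    rw [h]; infer_instance
  exact IsIso.of_isIso_comp_left (pushoutSection H₀ hUS hX₀ hY₀) _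

lemma isIso_appTop [CompactSpace ↥X.left] : IsIso (Scheme.Hom.appTop (cmpT X T)) := by
  let F₀ : TopCat.Sheaf CommRingCat T.left := (TopCat.Sheaf.pushforward _ (pullback.snd (hull X).hom T.hom).base).obj (pullback (hull X).hom T.hom).sheaf
  let F : TopCat.Sheaf CommRingCat T.left := (TopCat.Sheaf.pushforward _ (pullback.snd X.hom T.hom).base).obj (pullback X.hom T.hom).sheaf
  let η : F₀ ⟶ F := ⟨{
    app := fun U => Scheme.Hom.appLE (cmpT X T) ((pullback.snd (hull X).hom T.hom) ⁻¹ᵁ U.unop) ((pullback.snd X.hom T.hom) ⁻¹ᵁ U.unop) (le_preimage X T U.unop)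
    naturality := fun U V i => by
      change (pullback (hull X).hom T.hom).presheaf.map _ ≫ _ = _ ≫ (pullback X.hom T.hom).presheaf.map _
      rw [Scheme.Hom.map_appLE, Scheme.Hom.appLE_map] }⟩
  haveI : IsIso η := TopCat.Sheaf.isIso_iff_isIso_basis (B := fun U : T.left.affineOpens => U.1)
    (by simpa using T.left.isBasis_affineOpens) fun U => isIso_appLE X T U.2
  haveI i1 : IsIso η.hom := (TopCat.Sheaf.forget _ _).map_isIso η
  have h : IsIso (η.hom.app (Opposite.op ⊤)) := NatIso.isIso_app_of_isIso η.hom (Opposite.op ⊤)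
  change IsIso (Scheme.Hom.appLE (cmpT X T) ((pullback.snd (hull X).hom T.hom) ⁻¹ᵁ ⊤) ((pullback.snd X.hom T.hom) ⁻¹ᵁ ⊤) _) at h
  have e : Scheme.Hom.appLE (cmpT X T) ⊤ ⊤ (by simp) = Scheme.Hom.appTop (cmpT X T) := Scheme.Hom.appLE_eq_app _
  rw [← e]
  exact h

/-- Morphisms to an affine scheme do not see the difference. -/
lemma bijective_comp [CompactSpace ↥X.left] (Z : Over (Spec (CommRingCat.of k))) [IsAffine Z.left] :
    Function.Bijective (fun f₀ : hull X ⊗ T ⟶ Z => (toHull X ▷ T) ≫ f₀) := by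
  haveI := isIso_appTop X T
  refine ⟨fun a b h => Over.OverMorphism.ext (ext_of_isAffine ?_), fun f => ?_⟩
  · have := congrArg (fun z => z.left.appTop) h
    simp only [Over.comp_left, Scheme.Hom.comp_appTop] at this
    exact (cancel_mono (Scheme.Hom.appTop (cmpT X T))).1 this
  · let a : (hull X ⊗ T).left ⟶ Z.left := (hull X ⊗ T).left.toSpecΓ ≫
      Spec.map (f.left.appTop ≫ inv (Scheme.Hom.appTop (cmpT X T))) ≫ Z.left.isoSpec.inv
    have ha : a.appTop = f.left.appTop ≫ inv (Scheme.Hom.appTop (cmpT X T)) := by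
      have e : Z.left.isoSpec.inv.appTop ≫ (Scheme.ΓSpecIso Γ(Z.left, ⊤)).hom = 𝟙 _ := by
        rw [← Scheme.toSpecΓ_appTop, ← Scheme.Hom.comp_appTop, Scheme.toSpecΓ_isoSpec_inv]
        rfl
      simp only [a, Scheme.Hom.comp_appTop, Category.assoc]
      rw [Scheme.toSpecΓ_appTop, Scheme.ΓSpecIso_naturality]
      exact (Category.assoc _ _ _).symm.trans ((congrArg (· ≫ _) e).trans (Category.id_comp _))
    have h1 : (cmpT X T) ≫ a = f.left := ext_of_isAffine (by
      rw [Scheme.Hom.comp_appTop, ha, Category.assoc, IsIso.inv_hom_id, Category.comp_id])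
    have h2 : a ≫ Z.hom = (hull X ⊗ T).hom := ext_of_isAffine (by
      refine (cancel_mono (Scheme.Hom.appTop (cmpT X T))).1 ?_
      rw [← Scheme.Hom.comp_appTop, ← Scheme.Hom.comp_appTop, ← Category.assoc, h1, Over.w f,
        Over.w (toHull X ▷ T)])
    exact ⟨Over.homMk a h2, Over.OverMorphism.ext h1⟩

end

end Groth.Misc12.HomToAffine
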