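import Groth.Prelude.Def_SGA1t
import Mathlib.RingTheory.Smooth.Basic
import Mathlib.RingTheory.Etale.Basic

/-! Kummer algebras over smooth algebras along coordinates are formally smooth over the base. -/

set_option autoImplicit false
universe u v w

open MvPolynomial

namespace Groth.Misc12.KummerSmooth

theorem formallySmooth_kummer {R A : Type u} [CommRing R] [CommRing A] [Algebra R A]
    {σ : Type w} [Algebra (MvPolynomial σ R) A] [IsScalarTower R (MvPolynomial σ R) A]
    [Algebra.FormallySmooth (MvPolynomial σ R) A] {ι : Type v} (e : ι → σ) (he : Function.Injective e)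
    (n : ι → ℕ) (a : ι → A) (ha : ∀ i, a i = algebraMap (MvPolynomial σ R) A (X (e i))) :
    Algebra.FormallySmooth R (SGA1t.kummer A a n) := by
  classical
  refine Algebra.FormallySmooth.of_comp_surjective fun T _ _ I hI h => ?_
  let q : MvPolynomial ι A →+* SGA1t.kummer A a n := Ideal.Quotient.mk _
  choose t ht using fun i : ι => Ideal.Quotient.mk_surjective (I := I) (h (q (X i)))
  let hA : A →ₐ[R] T ⧸ I := h.comp (IsScalarTower.toAlgHom R A _)
  choose s hs using fun j : σ => Ideal.Quotient.mk_surjective (I := I) (hA (algebraMap (MvPolynomial σ R) A (X j)))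
  let g : σ → T := fun j => if hj : ∃ i, e i = j then t hj.choose ^ n hj.choose else s j
  have hq : ∀ i, q (X i) ^ n i = algebraMap A _ (a i) := fun i => by
    rw [← map_pow, IsScalarTower.algebraMap_apply A (MvPolynomial ι A) (SGA1t.kummer A a n)]
    exact Ideal.Quotient.eq.2 (Ideal.subset_span ⟨i, rfl⟩)
  have hge : ∀ i, g (e i) = t i ^ n i := fun i => by
    have hj : ∃ i', e i' = e i := ⟨i, rfl⟩
    simp only [g, dif_pos hj]
    rw [he hj.choose_spec]
  have hg : ∀ j, Ideal.Quotient.mk I (g j) = hA (algebraMap (MvPolynomial σ R) A (X j)) := fun j => by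
    by_cases hj : ∃ i, e i = j
    · obtain ⟨i, rfl⟩ := hj
      rw [hge, map_pow, ht, ← map_pow, hq, ha]
      rfl
    · simp only [g, dif_neg hj, hs]
  letI : Algebra (MvPolynomial σ R) T := (aeval g).toRingHom.toAlgebra
  haveI : IsScalarTower R (MvPolynomial σ R) T :=
    IsScalarTower.of_algebraMap_eq fun r => ((aeval g).commutes r).symm
  let hA' : A →ₐ[MvPolynomial σ R] T ⧸ I :=
    { (hA : A →+* T ⧸ I) with
      commutes' := by
        have key : (hA.comp (IsScalarTower.toAlgHom R (MvPolynomial σ R) A)) =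
            (Ideal.Quotient.mkₐ R I).comp (aeval g) := MvPolynomial.algHom_ext fun j => by simp [hg]
        exact fun p => congr($key p) }
  obtain ⟨L, hL⟩ := Algebra.FormallySmooth.exists_lift I ⟨2, hI⟩ hA'
  let L' : A →ₐ[R] T := L.restrictScalars R
  let Φ : MvPolynomial ι A →+* T := eval₂Hom L'.toRingHom t
  have hker : ∀ p ∈ Ideal.span (Set.range fun i => (X i : MvPolynomial ι A) ^ n i - C (a i)), Φ p = 0 := by
    intro p hp
    refine (RingHom.mem_ker).1 (Ideal.span_le.2 ?_ hp)
    rintro _ ⟨i, rfl⟩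
    show Φ _ = 0
    rw [map_sub, map_pow, eval₂Hom_X', eval₂Hom_C, ha i]
    show t i ^ n i - L (algebraMap (MvPolynomial σ R) A (X (e i))) = 0
    rw [L.commutes, RingHom.algebraMap_toAlgebra, sub_eq_zero]
    show t i ^ n i = aeval g (X (e i))
    rw [aeval_X, hge]
  let Ψ : SGA1t.kummer A a n →ₐ[R] T :=
    { Ideal.Quotient.lift _ Φ hker with
      commutes' := fun r => by
        show Φ (C (algebraMap R A r)) = _
        rw [eval₂Hom_C]
        exact L'.commutes r }
  refine ⟨Ψ, AlgHom.coe_ringHom_injective (Ideal.Quotient.ringHom_ext (MvPolynomial.ringHom_ext (fun b => ?_) fun i => ?_))⟩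
  · show Ideal.Quotient.mk I (Φ (C b)) = h (q (C b))
    rw [eval₂Hom_C]
    exact congr($hL b)
  · show Ideal.Quotient.mk I (Φ (X i)) = h (q (X i))
    rw [eval₂Hom_X', ht]

end Groth.Misc12.KummerSmooth
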