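import Mathlib
import Groth.Prelude.Def_ComodSub

set_option autoImplicit false

universe u v w

open TensorProduct

namespace Groth.Agent.Misc12.LDual

variable {k : Type u} [CommRing k] {A : Type v} [AddCommGroup A] [Module k A]
  {M : Type w} [AddCommGroup M] [Module k M]

/-- `a ⊗ φ ↦ (m ↦ φ m • a)`. -/
noncomputable def read (N : Type v) [AddCommGroup N] [Module k N] :
    N ⊗[k] Module.Dual k M →ₗ[k] M →ₗ[k] N :=
  dualTensorHom k M N ∘ₗ (TensorProduct.comm k N (Module.Dual k M)).toLinearMap

theorem read_tmul {N : Type v} [AddCommGroup N] [Module k N] (a : N) (φ : Module.Dual k M) (m : M) :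
    read N (a ⊗ₜ[k] φ) m = φ m • a := by
  simp [read]

theorem read_injective (N : Type v) [AddCommGroup N] [Module k N] [Module.Flat k N]
    [Module.Finite k M] : Function.Injective (read (k := k) (M := M) N) := by
  classical
  rw [injective_iff_map_eq_zero]
  intro x hx
  obtain ⟨s, hs⟩ := TensorProduct.exists_finset x
  let g : M →ₗ[k] (s → k) := LinearMap.pi fun i => (i : N × Module.Dual k M).2
  let h : (s → k) →ₗ[k] N :=
    ∑ i : s, (LinearMap.proj i : (s → k) →ₗ[k] k).smulRight (i : N × Module.Dual k M).1
  have hgh : h ∘ₗ g = 0 := by
    ext m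
    have : read N x m = 0 := by rw [hx]; rfl
    rw [hs, map_sum, LinearMap.sum_apply, ← Finset.sum_coe_sort] at this
    simpa [h, g, read_tmul] using this
  obtain ⟨p, q, y, hy, hq⟩ := Module.Flat.exists_factorization_of_comp_eq_zero_of_free hgh
  have hq' : ∀ j : Fin p, (∑ i : s, q (Pi.single i 1) j • (i : N × Module.Dual k M).2) = 0 := by
    intro j
    ext m
    have hm := congrArg (fun z => z j) (LinearMap.congr_fun hq m)
    simp only [LinearMap.comp_apply, LinearMap.zero_apply, Finsupp.coe_zero, Pi.zero_apply] at hm
    rw [pi_eq_sum_univ' (g m), map_sum, Finsupp.finsetSum_apply] at hm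
    rw [LinearMap.zero_apply, LinearMap.sum_apply, ← hm]
    refine Finset.sum_congr rfl fun i _ => ?_
    simp [g, mul_comm]
  have hx' : x = ∑ j : Fin p, y (Finsupp.single j 1) ⊗ₜ[k]
      ∑ i : s, q (Pi.single i 1) j • (i : N × Module.Dual k M).2 := by
    conv_lhs => rw [hs, ← Finset.sum_coe_sort]
    simp only [TensorProduct.tmul_sum]
    rw [Finset.sum_comm]
    refine Finset.sum_congr rfl fun i _ => ?_
    have h1 : (i : N × Module.Dual k M).1 = ∑ j, q (Pi.single i 1) j • y (Finsupp.single j 1) := by
      have : h (Pi.single i 1) = (i : N × Module.Dual k M).1 := by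
        simp [h, Pi.single_apply]
      rw [← this, hy, LinearMap.comp_apply]
      conv_lhs => rw [← Finsupp.univ_sum_single (q (Pi.single i 1)), map_sum]
      refine Finset.sum_congr rfl fun j _ => ?_
      rw [← map_smul, Finsupp.smul_single, smul_eq_mul, mul_one]
    rw [h1, TensorProduct.sum_tmul]
    refine Finset.sum_congr rfl fun j _ => ?_
    rw [TensorProduct.smul_tmul]
  rw [hx']
  exact Finset.sum_eq_zero fun j _ => by rw [hq' j, TensorProduct.tmul_zero]

theorem read_surjective (N : Type v) [AddCommGroup N] [Module k N] [Module.Flat k N]
    [Module.FinitePresentation k M] : Function.Surjective (read (k := k) (M := M) N) := by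
  intro f
  obtain ⟨p, g, h, rfl⟩ := Module.Flat.exists_factorization_of_finitePresentation f
  refine ⟨∑ j : Fin p, h (Finsupp.single j 1) ⊗ₜ[k] (Finsupp.lapply j ∘ₗ g), ?_⟩
  ext m
  rw [map_sum, LinearMap.sum_apply, LinearMap.comp_apply]
  conv_rhs => rw [← Finsupp.univ_sum_single (g m), map_sum]
  refine Finset.sum_congr rfl fun j _ => ?_
  rw [read_tmul, ← map_smul, Finsupp.smul_single, smul_eq_mul, mul_one]
  rfl

section

variable [Coalgebra k A] (c : HopfRep.Comod k A M)

noncomputable def ldualLin : Module.Dual k M →ₗ[k] M →ₗ[k] A where
  toFun g := ComodSub.ldualFun c g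
  map_add' g g' := by ext m; simp [ComodSub.ldualFun, LinearMap.rTensor_add]
  map_smul' r g := by ext m; simp [ComodSub.ldualFun, LinearMap.rTensor_smul]

variable [Module.Flat k A] [Module.FinitePresentation k M]

noncomputable def coactL : Module.Dual k M →ₗ[k] A ⊗[k] Module.Dual k M :=
  (LinearEquiv.ofBijective (read (k := k) (M := M) A)
    ⟨read_injective A, read_surjective A⟩).symm.toLinearMap ∘ₗ ldualLin c

theorem read_coactL (g : Module.Dual k M) : read A (coactL c g) = ComodSub.ldualFun c g :=
  (LinearEquiv.ofBijective (read (k := k) (M := M) A)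
    ⟨read_injective A, read_surjective A⟩).apply_symm_apply (ldualLin c g)

theorem read2_lTensor (x : A ⊗[k] Module.Dual k M) (m : M) :
    read (A ⊗[k] A) ((TensorProduct.assoc k A A _).symm ((coactL c).lTensor A x)) m
      = (read A x).rTensor A (c.coact m) := by
  induction x using TensorProduct.induction_on with
  | zero => simp
  | add a b ha hb => simp [LinearMap.rTensor_add, ha, hb]
  | tmul a φ =>
    have h1 : ∀ w : A ⊗[k] Module.Dual k M,
        read (A ⊗[k] A) ((TensorProduct.assoc k A A _).symm (a ⊗ₜ[k] w)) m = a ⊗ₜ[k] read A w m := by
      intro w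
      induction w using TensorProduct.induction_on with
      | zero => simp
      | add p q hp hq => simp [TensorProduct.tmul_add, hp, hq]
      | tmul b ψ => simp [read_tmul]
    rw [LinearMap.lTensor_tmul, h1, read_coactL, ComodSub.ldualFun_apply]
    generalize c.coact m = z
    induction z using TensorProduct.induction_on with
    | zero => simp
    | add p q hp hq => simp only [map_add, TensorProduct.tmul_add, hp, hq]
    | tmul e f => simp [read_tmul, TensorProduct.smul_tmul]

omit [Module.Flat k A] [Module.FinitePresentation k M] in
theorem read2_rTensor (x : A ⊗[k] Module.Dual k M) (m : M) :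
    read (A ⊗[k] A) ((CoalgebraStruct.comul (R := k) (A := A)).rTensor _ x) m
      = CoalgebraStruct.comul (read A x m) := by
  induction x using TensorProduct.induction_on with
  | zero => simp
  | add a b ha hb => simp [ha, hb]
  | tmul a φ => simp [read_tmul]

/-- The left dual comodule. -/
noncomputable def ldual : ComodSub.LComod k A (Module.Dual k M) where
  coact := coactL c
  coassoc := by
    apply LinearMap.ext
    intro g
    apply (TensorProduct.assoc k A A (Module.Dual k M)).symm.injective
    apply read_injective (A ⊗[k] A)
    ext m
    simp only [LinearMap.comp_apply, LinearEquiv.coe_coe, LinearEquiv.symm_apply_apply]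
    rw [read2_lTensor, read2_rTensor, read_coactL]
    have hco := LinearMap.congr_fun c.coassoc m
    simp only [LinearMap.comp_apply, LinearEquiv.coe_coe] at hco
    have h2 : (ComodSub.ldualFun c g).rTensor A (c.coact m) =
        TensorProduct.lid k (A ⊗[k] A) (g.rTensor (A ⊗[k] A)
          (TensorProduct.assoc k M A A (c.coact.rTensor A (c.coact m)))) := by
      rw [ComodSub.ldualFun, LinearMap.rTensor_comp, LinearMap.rTensor_comp, LinearMap.comp_apply,
        LinearMap.comp_apply]
      generalize c.coact.rTensor A (c.coact m) = z
      induction z using TensorProduct.induction_on with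
      | zero => simp
      | add p q hp hq => simp only [map_add, hp, hq]
      | tmul w f =>
        induction w using TensorProduct.induction_on with
        | zero => simp
        | add p q hp hq => simp only [map_add, TensorProduct.add_tmul, hp, hq]
        | tmul e e' => simp [TensorProduct.smul_tmul']
    rw [h2, hco, ComodSub.ldualFun_apply]
    generalize c.coact m = z
    induction z using TensorProduct.induction_on with
    | zero => simp
    | add p q hp hq => simp only [map_add, hp, hq]
    | tmul e e' => simp
  counit_comp := by
    apply LinearMap.ext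
    intro g
    apply (TensorProduct.lid k (Module.Dual k M)).injective
    ext m
    simp only [LinearMap.comp_apply, TensorProduct.mk_apply, TensorProduct.lid_tmul, one_smul]
    have h1 : ∀ x : A ⊗[k] Module.Dual k M,
        TensorProduct.lid k (Module.Dual k M)
          ((CoalgebraStruct.counit (R := k) (A := A)).rTensor _ x) m
          = CoalgebraStruct.counit (read A x m) := by
      intro x
      induction x using TensorProduct.induction_on with
      | zero => simp
      | add p q hp hq => simp [hp, hq]
      | tmul a φ => simp [read_tmul, mul_comm]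
    have h3 : ∀ z : M ⊗[k] A, CoalgebraStruct.counit (R := k) (TensorProduct.lid k A (g.rTensor A z))
        = g (TensorProduct.rid k M ((CoalgebraStruct.counit (R := k) (A := A)).lTensor M z)) := by
      intro z
      induction z using TensorProduct.induction_on with
      | zero => simp
      | add p q hp hq => simp only [map_add, hp, hq]
      | tmul e e' => simp [mul_comm]
    have hcu := LinearMap.congr_fun c.counit_comp m
    simp only [LinearMap.comp_apply] at hcu
    rw [h1, read_coactL, ComodSub.ldualFun_apply, h3, hcu]
    simp

theorem isLDual_ldual : ComodSub.LComod.IsLDual c (ldual c) := fun g => read_coactL c g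

end

end Groth.Agent.Misc12.LDual
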