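import Mathlib

/-! The largest étale subalgebra of a connected algebra over a field. -/

set_option autoImplicit false
set_option linter.style.haveILetI false
universe u

open TensorProduct

namespace Groth.Misc12.MaxEtaleSubalg

variable {k : Type u} [Field k] {R : Type u} [CommRing R] [Algebra k R]
  {L : Type u} [Field L] [Algebra k L] [FiniteDimensional k L] (ρ : R →ₐ[k] L)
  (hidem : ∀ e : R, IsIdempotentElem e → e = 0 ∨ e = 1)

include ρ hidem in
theorem range_facts {E : Type u} [CommRing E] [Algebra k E] [Algebra.Etale k E] (ψ : E →ₐ[k] R) :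
    IsField ψ.range ∧ Module.Finite k ψ.range ∧ Algebra.Etale k ψ.range ∧
      Module.finrank k ψ.range ≤ Module.finrank k L := by
  classical
  have hR : Nontrivial R := ρ.toRingHom.domain_nontrivial
  have hfin : Module.Finite k E := Algebra.FormallyUnramified.finite_of_free k E
  have : IsArtinianRing E := IsArtinianRing.of_finite k E
  have : IsReduced E := Algebra.FormallyUnramified.isReduced_of_field k E
  have hsurj : Function.Surjective ψ.rangeRestrict := AlgHom.rangeRestrict_surjective ψ
  have hfield : IsField ψ.range := by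
    refine ⟨⟨0, 1, zero_ne_one⟩, mul_comm, fun {a} ha => ?_⟩
    obtain ⟨x, rfl⟩ := hsurj a
    -- von Neumann regularity of a reduced Artinian ring
    obtain ⟨n, hn⟩ := IsArtinian.monotone_stabilizes
      (R := E) (M := E) ⟨fun n => OrderDual.toDual (Ideal.span {x ^ n}), fun a b hab =>
        Ideal.span_singleton_le_span_singleton.2 (pow_dvd_pow x hab)⟩
    have h1 : Ideal.span {x ^ n} = Ideal.span {x ^ (n + 1)} := hn (n + 1) (Nat.le_succ n)
    obtain ⟨y, hy⟩ := Ideal.mem_span_singleton.1 (h1.le (Ideal.mem_span_singleton_self _))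
    have h2 : x * (1 - x * y) = 0 := by
      refine IsReduced.eq_zero _ ⟨n + 1, ?_⟩
      have h4 : x ^ n * (1 - x * y) = 0 := by rw [mul_sub, mul_one, sub_eq_zero]; linear_combination hy
      rw [mul_pow, pow_succ (1 - x * y), pow_succ x]
      linear_combination (x * (1 - x * y) ^ n) * h4
    have he : IsIdempotentElem (ψ (x * y)) := by
      show ψ (x * y) * ψ (x * y) = ψ (x * y)
      rw [← map_mul]; congr 1; linear_combination (-y) * h2
    rcases hidem _ he with h | h
    · refine absurd (Subtype.ext ?_) ha
      show ψ x = 0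
      have h3 : ψ (x * (1 - x * y)) = ψ 0 := congrArg ψ h2
      rw [map_mul ψ x (1 - x * y), map_sub ψ, map_one, h, sub_zero, mul_one, map_zero] at h3
      exact h3
    · exact ⟨ψ.rangeRestrict y, Subtype.ext (by rw [MulMemClass.coe_mul]; exact (map_mul ψ x y).symm.trans h)⟩
  have hF : Module.Finite k ψ.range := Module.Finite.of_surjective ψ.rangeRestrict.toLinearMap hsurj
  letI : Algebra E ψ.range := ψ.rangeRestrict.toRingHom.toAlgebra
  haveI : IsScalarTower k E ψ.range := IsScalarTower.of_algebraMap_eq fun r => (ψ.rangeRestrict.commutes r).symm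
  haveI : Algebra.FormallyUnramified E ψ.range := Algebra.FormallyUnramified.of_surjective (Algebra.ofId E ψ.range) hsurj
  haveI : Algebra.FormallyUnramified k ψ.range := Algebra.FormallyUnramified.comp k E ψ.range
  haveI : Algebra.FormallyEtale k ψ.range := Algebra.FormallyEtale.of_formallyUnramified_of_field k ψ.range
  refine ⟨hfield, hF, ⟨inferInstance, Algebra.FinitePresentation.of_finiteType.mp inferInstance⟩, ?_⟩
  letI := hfield.toField
  exact LinearMap.finrank_le_finrank_of_injective (f := (ρ.comp ψ.range.val).toLinearMap)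
    (RingHom.injective (ρ.comp ψ.range.val).toRingHom)

include ρ hidem in
/-- There is a largest étale subalgebra and it is a field. -/
theorem exists_max : ∃ K : Subalgebra k R, IsField K ∧ Algebra.Etale k K ∧
    ∀ (E : Type u) [CommRing E] [Algebra k E] [Algebra.Etale k E] (ψ : E →ₐ[k] R), ψ.range ≤ K := by
  classical
  let N := {n : ℕ | ∃ (E : Type u) (_ : CommRing E) (_ : Algebra k E) (_ : Algebra.Etale k E) (ψ : E →ₐ[k] R),
    Module.finrank k ψ.range = n}
  have hne : N.Nonempty := ⟨_, k, inferInstance, inferInstance, inferInstance, Algebra.ofId k R, rfl⟩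
  have hbdd : BddAbove N := ⟨Module.finrank k L, by
    rintro _ ⟨E, _, _, _, ψ, rfl⟩
    exact (range_facts ρ hidem ψ).2.2.2⟩
  obtain ⟨E, _, _, _, ψ, hψ⟩ := Nat.sSup_mem hne hbdd
  refine ⟨ψ.range, (range_facts ρ hidem ψ).1, (range_facts ρ hidem ψ).2.2.1, fun F _ _ _ φ => ?_⟩
  haveI : Algebra.Etale k (E ⊗[k] F) := by
    haveI : Algebra.Etale E (E ⊗[k] F) := inferInstance
    exact Algebra.Etale.comp k E (E ⊗[k] F)
  let χ := Algebra.TensorProduct.productMap ψ φ
  have hle : ψ.range ≤ χ.range := by
    rw [Algebra.TensorProduct.productMap_range]; exact le_sup_left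
  have hle' : φ.range ≤ χ.range := by
    rw [Algebra.TensorProduct.productMap_range]; exact le_sup_right
  have h1 : Module.finrank k χ.range ≤ Module.finrank k ψ.range := by
    rw [hψ]; exact le_csSup hbdd ⟨_, _, _, inferInstance, χ, rfl⟩
  haveI : Module.Finite k χ.range := (range_facts ρ hidem χ).2.1
  haveI : Module.Finite k (Subalgebra.toSubmodule χ.range) := ‹_›
  have h2 : Subalgebra.toSubmodule ψ.range = Subalgebra.toSubmodule χ.range :=
    Submodule.eq_of_le_of_finrank_le hle h1
  exact hle'.trans (Subalgebra.toSubmodule_injective h2).ge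

open CategoryTheory AlgebraicGeometry in
theorem flat_to_field {X : Scheme.{u}} {K : CommRingCat.{u}} (hK : IsField K) (f : X ⟶ Spec K) : Flat f := by
  refine IsZariskiLocalAtSource.of_openCover (P := @Flat) X.affineCover fun i => ?_
  obtain ⟨φ, hφ⟩ := Spec.map_surjective (X.affineCover.f i ≫ f)
  show Flat (X.affineCover.f i ≫ f)
  suffices Flat (Spec.map φ) from hφ ▸ this
  rw [HasRingHomProperty.Spec_iff (P := @Flat)]
  letI := hK.toField
  letI := φ.hom.toAlgebra
  exact RingHom.flat_algebraMap_iff.2 inferInstance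

end Groth.Misc12.MaxEtaleSubalg
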