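import Mathlib.RingTheory.Smooth.StandardSmoothCotangent
import Mathlib.RingTheory.Smooth.StandardSmoothOfFree
import Mathlib.RingTheory.RingHom.StandardSmooth
import Mathlib.AlgebraicGeometry.Morphisms.Smooth
import Mathlib.Algebra.TrivSqZeroExt.Basic
import Mathlib.Algebra.DualNumber
import Mathlib.LinearAlgebra.Dimension.Constructions

/-!
A smooth algebra is smooth of relative dimension `d` once, at every field valued point, the space of derivations
into the field has dimension `d`.
-/

set_option autoImplicit false
set_option linter.unusedSectionVars false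

noncomputable section

universe u

open AlgebraicGeometry CategoryTheory
open scoped DualNumber

namespace Groth.Misc12.RelDim

variable {R : Type u} [CommRing R] {C : Type u} [CommRing C] [Algebra R C]
variable {K : Type u} [Field K] [Algebra R K] [Algebra C K] [IsScalarTower R C K]

/-- The `K[ε]`-valued point attached to a derivation. -/
def toDual (D : Derivation R C K) : C →ₐ[R] K[ε] where
  toFun c := TrivSqZeroExt.inl (algebraMap C K c) + TrivSqZeroExt.inr (D c)
  map_one' := by ext <;> simp
  map_mul' x y := by
    refine TrivSqZeroExt.ext ?_ ?_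
    · simp
    · simp only [TrivSqZeroExt.snd_add, TrivSqZeroExt.snd_inl, TrivSqZeroExt.snd_inr, TrivSqZeroExt.snd_mul,
        TrivSqZeroExt.fst_add, TrivSqZeroExt.fst_inl, TrivSqZeroExt.fst_inr, zero_add, add_zero, Derivation.leibniz,
        MulOpposite.smul_eq_mul_unop, MulOpposite.unop_op, smul_eq_mul]
      rw [Algebra.smul_def, Algebra.smul_def]
      ring
  map_zero' := by ext <;> simp
  map_add' x y := by ext <;> simp
  commutes' r := by
    ext <;> simp [← IsScalarTower.algebraMap_apply, TrivSqZeroExt.algebraMap_eq_inl']

@[simp] theorem fst_toDual (D : Derivation R C K) (c : C) : (toDual D c).fst = algebraMap C K c := by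
  simp [toDual]

@[simp] theorem snd_toDual (D : Derivation R C K) (c : C) : (toDual D c).snd = D c := by
  simp [toDual]

/-- The derivation attached to a `K[ε]`-valued point. -/
def ofDual (ψ : C →ₐ[R] K[ε]) (h : ∀ c, (ψ c).fst = algebraMap C K c) : Derivation R C K :=
  Derivation.mk'
    { toFun := fun c => (ψ c).snd
      map_add' := fun x y => by simp
      map_smul' := fun r x => by simp [map_smul] }
    (fun x y => by
      simp only [LinearMap.coe_mk, AddHom.coe_mk, map_mul, TrivSqZeroExt.snd_mul, h, MulOpposite.smul_eq_mul_unop,
        MulOpposite.unop_op, smul_eq_mul, Algebra.smul_def]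
      ring)

@[simp] theorem ofDual_apply (ψ : C →ₐ[R] K[ε]) (h : ∀ c, (ψ c).fst = algebraMap C K c) (c : C) :
    ofDual ψ h c = (ψ c).snd := rfl

variable (R K) in
/-- Restriction of derivations from a localisation away from `f`. -/
theorem finrank_derivation_away (f : C) (B : Type u) [CommRing B] [Algebra C B] [IsLocalization.Away f B]
    [Algebra R B] [IsScalarTower R C B] [Algebra B K] [IsScalarTower C B K] [IsScalarTower R B K] :
    Module.finrank K (Derivation R B K) = Module.finrank K (Derivation R C K) := by
  let L : Derivation R B K →ₗ[K] Derivation R C K :=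
    { toFun := fun D => D.compAlgebraMap C
      map_add' := fun _ _ => rfl
      map_smul' := fun _ _ => rfl }
  refine (LinearEquiv.ofBijective L ⟨?_, fun D => ?_⟩).finrank_eq
  · intro D D' h
    apply Derivation.ext
    intro x
    obtain ⟨a, ⟨s, hs⟩, rfl⟩ := IsLocalization.exists_mk'_eq (Submonoid.powers f) x
    have hmk := IsLocalization.mk'_spec B a (⟨s, hs⟩ : Submonoid.powers f)
    have e := congrArg D hmk
    have e' := congrArg D' hmk
    rw [D.leibniz] at e
    rw [D'.leibniz] at e'
    have hc : ∀ c, D (algebraMap C B c) = D' (algebraMap C B c) := fun c => Derivation.congr_fun h c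
    have hu : IsUnit (algebraMap B K (algebraMap C B s)) := (IsLocalization.map_units B (⟨s, hs⟩ : Submonoid.powers f)).map _
    rw [hc a, ← e'] at e
    simp only [hc, Algebra.smul_def, add_right_inj] at e
    exact hu.mul_left_cancel e
  · have hu : ∀ y : Submonoid.powers f, IsUnit (toDual D (y : C)) := fun y => by
      refine TrivSqZeroExt.isUnit_iff_isUnit_fst.2 ?_
      rw [fst_toDual, IsScalarTower.algebraMap_apply C B K]
      exact (IsLocalization.map_units B y).map _
    let Ψ : B →+* K[ε] := IsLocalization.lift (M := Submonoid.powers f) (g := (toDual D).toRingHom) hu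
    have hΨ : ∀ c, Ψ (algebraMap C B c) = toDual D c := fun c => IsLocalization.lift_eq hu c
    have hcm : ∀ r : R, Ψ (algebraMap R B r) = algebraMap R K[ε] r := fun r => by
      rw [IsScalarTower.algebraMap_apply R C B, hΨ, AlgHom.commutes]
    let Ψ' : B →ₐ[R] K[ε] := ⟨Ψ, hcm⟩
    have hfst : ∀ b, (Ψ' b).fst = algebraMap B K b := by
      have : (TrivSqZeroExt.fstHom K K K).toRingHom.comp Ψ = algebraMap B K := by
        refine IsLocalization.ringHom_ext (Submonoid.powers f) (RingHom.ext fun c => ?_)
        change (Ψ (algebraMap C B c)).fst = _
        rw [hΨ, fst_toDual]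
        exact IsScalarTower.algebraMap_apply C B K c
      exact fun b => RingHom.congr_fun this b
    refine ⟨ofDual Ψ' hfst, Derivation.ext fun c => ?_⟩
    change (Ψ (algebraMap C B c)).snd = _
    rw [hΨ, snd_toDual]

/-- For a standard smooth algebra the rank of the differentials is the dimension of the derivations at any point. -/
theorem rank_kaehler_eq [Nontrivial C] [Algebra.IsStandardSmooth R C] :
    Module.rank C (Ω[C⁄R]) = Module.finrank K (Derivation R C K) := by
  classical
  obtain ⟨-, I, b, hb⟩ := (Algebra.IsStandardSmooth.iff_exists_basis_kaehlerDifferential (R := R) (S := C)).1 inferInstance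
  haveI : Finite I := Module.Finite.finite_basis b
  haveI := Fintype.ofFinite I
  choose x hx using fun i => hb ⟨i, rfl⟩
  let L : Derivation R C K →ₗ[K] (I → K) :=
    { toFun := fun D i => D (x i)
      map_add' := fun _ _ => rfl
      map_smul' := fun _ _ => rfl }
  have hL : Function.Bijective L := by
    refine ⟨fun D D' h => ?_, fun v => ?_⟩
    · apply Derivation.ext
      intro c
      have : D.liftKaehlerDifferential = D'.liftKaehlerDifferential := b.ext fun i => by
        rw [← hx i, Derivation.liftKaehlerDifferential_comp_D, Derivation.liftKaehlerDifferential_comp_D]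
        exact congrFun h i
      rw [← D.liftKaehlerDifferential_comp_D c, this, D'.liftKaehlerDifferential_comp_D]
    · refine ⟨KaehlerDifferential.linearMapEquivDerivation R C (b.constr C v), funext fun i => ?_⟩
      change (b.constr C v) (KaehlerDifferential.D R C (x i)) = v i
      rw [hx i]
      exact b.constr_basis C v i
  rw [rank_eq_card_basis b, (LinearEquiv.ofBijective L hL).finrank_eq, Module.finrank_fintype_fun_eq_card]

/-- The criterion. -/
theorem smoothOfRelativeDimension (R C : Type u) [CommRing R] [CommRing C] [Algebra R C] [Algebra.Smooth R C] (d : ℕ)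
    (h : ∀ (K : Type u) [Field K] [Algebra R K] [Algebra C K] [IsScalarTower R C K],
      Module.finrank K (Derivation R C K) = d) :
    SmoothOfRelativeDimension d (Spec.map (CommRingCat.ofHom (algebraMap R C))) := by
  refine (HasRingHomProperty.Spec_iff (P := @SmoothOfRelativeDimension.{u} d)).2 ?_
  choose f hf hstd using fun p : PrimeSpectrum C => Algebra.IsSmoothAt.exists_notMem_isStandardSmooth R p.asIdeal
  refine ⟨Set.range f, ?_, ?_⟩
  · by_contra hne
    obtain ⟨P, hP, hle⟩ := Ideal.exists_le_maximal _ hne
    exact hf ⟨P, hP.isPrime⟩ (hle (Ideal.subset_span ⟨_, rfl⟩))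
  · rintro _ ⟨p, rfl⟩
    rw [CommRingCat.hom_ofHom, ← IsScalarTower.algebraMap_eq R C (Localization.Away (f p)),
      RingHom.isStandardSmoothOfRelativeDimension_algebraMap]
    haveI := hstd p
    let K := p.asIdeal.ResidueField
    have hu : IsUnit (algebraMap C K (f p)) :=
      isUnit_iff_ne_zero.2 fun h0 => hf p (Ideal.algebraMap_residueField_eq_zero.1 h0)
    letI : Algebra (Localization.Away (f p)) K := (IsLocalization.Away.lift (f p) hu).toAlgebra
    haveI : IsScalarTower C (Localization.Away (f p)) K :=
      IsScalarTower.of_algebraMap_eq fun c => (IsLocalization.Away.lift_eq (f p) hu c).symm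
    haveI : IsScalarTower R (Localization.Away (f p)) K := IsScalarTower.of_algebraMap_eq fun r => by
      rw [IsScalarTower.algebraMap_apply R C (Localization.Away (f p)), ← IsScalarTower.algebraMap_apply C (Localization.Away (f p)) K,
        ← IsScalarTower.algebraMap_apply R C K]
    haveI : Nontrivial (Localization.Away (f p)) := (algebraMap (Localization.Away (f p)) K).domain_nontrivial
    rw [Algebra.IsStandardSmoothOfRelativeDimension.iff_of_isStandardSmooth, rank_kaehler_eq (K := K),
      finrank_derivation_away R K (f p) (Localization.Away (f p)), h K]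

/-- An open immersion keeps the relative dimension; localisation form. -/
theorem away (R C : Type u) [CommRing R] [CommRing C] [Algebra R C] [Algebra.Smooth R C] (f : C) (d : ℕ)
    (h : ∀ (K : Type u) [Field K] [Algebra R K] [Algebra C K] [IsScalarTower R C K],
      Module.finrank K (Derivation R C K) = d) :
    SmoothOfRelativeDimension d (Spec.map (CommRingCat.ofHom (algebraMap R (Localization.Away f)))) := by
  haveI : Algebra.FinitePresentation C (Localization.Away f) := IsLocalization.Away.finitePresentation f
  haveI : Algebra.Smooth C (Localization.Away f) := ⟨Algebra.FormallySmooth.of_isLocalization (Submonoid.powers f), inferInstance⟩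
  haveI : Algebra.Smooth R (Localization.Away f) := Algebra.Smooth.comp R C _
  refine smoothOfRelativeDimension R _ d fun K _ _ _ _ => ?_
  letI : Algebra C K := ((algebraMap (Localization.Away f) K).comp (algebraMap C _)).toAlgebra
  haveI : IsScalarTower C (Localization.Away f) K := IsScalarTower.of_algebraMap_eq fun _ => rfl
  haveI : IsScalarTower R C K := IsScalarTower.of_algebraMap_eq fun r => by
    rw [IsScalarTower.algebraMap_apply R (Localization.Away f) K, IsScalarTower.algebraMap_apply R C (Localization.Away f)]
    rfl
  rw [finrank_derivation_away R K f (Localization.Away f), h K]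

end Groth.Misc12.RelDim
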