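import Mathlib.RingTheory.MvPolynomial.Ideal
import Mathlib.Algebra.MvPolynomial.PDeriv
import Mathlib.Algebra.MvPolynomial.Rename
import Mathlib.Algebra.Field.Basic
import Mathlib.Data.Fin.Basic

set_option autoImplicit false

universe u

namespace Groth.Misc12.Quad2

open MvPolynomial

variable {K : Type u} [Field K]

theorem mem_vars_iff {σ : Type*} (f : MvPolynomial σ K) :
    f ∈ Ideal.span (Set.range (X : σ → MvPolynomial σ K)) ↔ constantCoeff f = 0 := by
  have h := mem_pow_idealOfVars_iff' (σ := σ) (R := K) 1 f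
  rw [pow_one] at h
  refine h.trans ⟨fun h => h 0 (by simp), fun h x hx => ?_⟩
  have : Finsupp.degree x = 0 := by omega
  rw [Finsupp.degree_eq_zero_iff] at this
  subst this
  exact h

theorem constantCoeff_pderiv_of_mem_sq {σ : Type*} (i : σ) (f : MvPolynomial σ K)
    (h : f ∈ (Ideal.span (Set.range (X : σ → MvPolynomial σ K))) ^ 2) :
    constantCoeff (pderiv i f) = 0 := by
  rw [pow_two] at h
  refine Submodule.mul_induction_on h (fun a ha b hb => ?_) (fun a b ha hb => by simp [ha, hb])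
  rw [mem_vars_iff] at ha hb
  simp [pderiv_mul, ha, hb]

/-- Retraction `x, y ↦ x, y`, `z ↦ 0`. -/
noncomputable def retr : MvPolynomial (Fin 3) K →ₐ[K] MvPolynomial (Fin 2) K :=
  aeval ![X 0, X 1, 0]

theorem retr_rename (G : MvPolynomial (Fin 2) K) :
    retr (rename (Fin.castSucc : Fin 2 → Fin 3) G) = G := by
  rw [retr, aeval_rename]
  conv_rhs => rw [← aeval_X_left_apply G]
  congr 1
  apply algHom_ext
  intro i
  fin_cases i <;> simp

theorem map_vars_le : (Ideal.span (Set.range (X : Fin 3 → MvPolynomial (Fin 3) K))).map (retr (K := K)) ≤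
    Ideal.span (Set.range (X : Fin 2 → MvPolynomial (Fin 2) K)) := by
  rw [Ideal.map_span, Ideal.span_le]
  rintro x ⟨y, ⟨i, rfl⟩, rfl⟩
  fin_cases i
  · exact Ideal.subset_span ⟨0, by simp [retr]⟩
  · exact Ideal.subset_span ⟨1, by simp [retr]⟩
  · simp [retr]

noncomputable def h3 (G₂ G₃ G₄ : MvPolynomial (Fin 2) K) : MvPolynomial (Fin 3) K :=
  rename (Fin.castSucc : Fin 2 → Fin 3) G₂ * X (2 : Fin 3) ^ 2
        + 2 * rename (Fin.castSucc : Fin 2 → Fin 3) G₃ * X (2 : Fin 3)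
        + rename (Fin.castSucc : Fin 2 → Fin 3) G₄

theorem retr_h3 (G₂ G₃ G₄ : MvPolynomial (Fin 2) K) : retr (h3 G₂ G₃ G₄) = G₄ := by
  simp only [h3, map_add, map_mul, map_pow, retr_rename]
  simp [retr]

theorem mem_sq_g3 (G₂ G₃ G₄ : MvPolynomial (Fin 2) K) (h2 : (2 : K) ≠ 0)
    (h : h3 G₂ G₃ G₄ ∈ (Ideal.span (Set.range (X : Fin 3 → MvPolynomial (Fin 3) K))) ^ 2) :
    constantCoeff G₃ = 0 := by
  have := constantCoeff_pderiv_of_mem_sq (2 : Fin 3) _ h
  have hz : ∀ G : MvPolynomial (Fin 2) K, pderiv (2 : Fin 3) (rename (Fin.castSucc : Fin 2 → Fin 3) G) = 0 := by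
    classical
    intro G
    refine pderiv_eq_zero_of_notMem_vars fun hm => ?_
    obtain ⟨i, _, hi⟩ := Finset.mem_image.1 (vars_rename _ G hm)
    fin_cases i <;> simp [Fin.ext_iff] at hi
  simp only [h3, map_add, pderiv_mul, hz, pderiv_X_self, pderiv_pow, map_mul, constantCoeff_rename] at this
  simp at this
  refine this.resolve_left ?_
  rw [map_ofNat]
  exact h2

theorem mem_sq_g4 (G₂ G₃ G₄ : MvPolynomial (Fin 2) K)
    (h : h3 G₂ G₃ G₄ ∈ (Ideal.span (Set.range (X : Fin 3 → MvPolynomial (Fin 3) K))) ^ 2) :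
    G₄ ∈ (Ideal.span (Set.range (X : Fin 2 → MvPolynomial (Fin 2) K))) ^ 2 := by
  have := Ideal.mem_map_of_mem (retr (K := K)) h
  rw [Ideal.map_pow, retr_h3] at this
  exact Ideal.pow_right_mono map_vars_le 2 this

theorem h3_mem_sq (G₂ G₃ G₄ : MvPolynomial (Fin 2) K) (c3 : constantCoeff G₃ = 0)
    (h4 : G₄ ∈ (Ideal.span (Set.range (X : Fin 2 → MvPolynomial (Fin 2) K))) ^ 2) :
    h3 G₂ G₃ G₄ ∈ (Ideal.span (Set.range (X : Fin 3 → MvPolynomial (Fin 3) K))) ^ 2 := by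
  set m := Ideal.span (Set.range (X : Fin 3 → MvPolynomial (Fin 3) K))
  have hX : X (2 : Fin 3) ∈ m := Ideal.subset_span ⟨2, rfl⟩
  refine add_mem (add_mem (Ideal.mul_mem_left _ _ (Ideal.pow_mem_pow hX 2)) ?_) ?_
  · rw [pow_two]
    refine Ideal.mul_mem_mul (Ideal.mul_mem_left _ _ ?_) hX
    rw [mem_vars_iff, constantCoeff_rename, c3]
  · have := Ideal.mem_map_of_mem (rename (Fin.castSucc : Fin 2 → Fin 3) : MvPolynomial (Fin 2) K →ₐ[K] _) h4
    rw [Ideal.map_pow] at this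
    refine Ideal.pow_right_mono ?_ 2 this
    rw [Ideal.map_span, Ideal.span_le]
    rintro x ⟨y, ⟨i, rfl⟩, rfl⟩
    exact Ideal.subset_span ⟨i.castSucc, by simp⟩

end Groth.Misc12.Quad2
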