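import Mathlib

/-! Cotangent spaces and formally smooth local homomorphisms. -/

set_option autoImplicit false
set_option linter.style.haveILetI false
universe u

open IsLocalRing

namespace Groth.Misc12.RankDim

/-- A formally smooth local map with trivial residue extension is injective on cotangent spaces. -/
theorem mem_sq_of_map_mem_sq {A B : Type u} [CommRing A] [CommRing B] [IsLocalRing A] [IsLocalRing B]
    (b : A →+* B) [IsLocalHom b] (hb : b.FormallySmooth) (hres : ∀ c : B, ∃ a : A, c - b a ∈ maximalIdeal B)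
    {a : A} (_ha : a ∈ maximalIdeal A) (h : b a ∈ maximalIdeal B ^ 2) : a ∈ maximalIdeal A ^ 2 := by
  algebraize [b]
  let g : (A ⧸ maximalIdeal A ^ 2) →ₐ[A] A ⧸ maximalIdeal A :=
    Ideal.Quotient.factorₐ A (show maximalIdeal A ^ 2 ≤ maximalIdeal A from Ideal.pow_le_self two_ne_zero)
  have hg : Function.Surjective g := Ideal.Quotient.factor_surjective (Ideal.pow_le_self two_ne_zero)
  have hker : ∀ v, g v = 0 → ∀ w, g w = 0 → v * w = 0 := by
    intro v hv w hw
    obtain ⟨v, rfl⟩ := Ideal.Quotient.mk_surjective v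
    obtain ⟨w, rfl⟩ := Ideal.Quotient.mk_surjective w
    rw [← map_mul, Ideal.Quotient.eq_zero_iff_mem, pow_two]
    exact Ideal.mul_mem_mul (Ideal.Quotient.eq_zero_iff_mem.1 hv) (Ideal.Quotient.eq_zero_iff_mem.1 hw)
  have hgn : IsNilpotent (RingHom.ker g) := ⟨2, by
    refine le_bot_iff.1 ?_
    rw [pow_two (RingHom.ker g), Ideal.mul_le]
    exact fun v hv w hw => (Submodule.mem_bot _).2 (hker v hv w hw)⟩
  let f₀ : (A ⧸ maximalIdeal A) →ₐ[A] B ⧸ maximalIdeal B :=
    Ideal.Quotient.liftₐ _ ((Ideal.Quotient.mkₐ A _).comp (Algebra.ofId A B))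
      (fun x hx => Ideal.Quotient.eq_zero_iff_mem.2 (map_nonunit b x hx))
  have hf₀ : Function.Bijective f₀ := by
    letI := Ideal.Quotient.field (maximalIdeal A)
    refine ⟨(f₀ : (A ⧸ maximalIdeal A) →+* B ⧸ maximalIdeal B).injective, fun y => ?_⟩
    obtain ⟨c, rfl⟩ := Ideal.Quotient.mk_surjective y
    obtain ⟨x, hx⟩ := hres c
    exact ⟨Ideal.Quotient.mk _ x, (Ideal.Quotient.eq.2 hx).symm⟩
  let f : B →ₐ[A] A ⧸ maximalIdeal A :=
    (AlgEquiv.ofBijective f₀ hf₀).symm.toAlgHom.comp (Ideal.Quotient.mkₐ A _)
  let ψ : B →ₐ[A] A ⧸ maximalIdeal A ^ 2 := Algebra.FormallySmooth.liftOfSurjective f g hg hgn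
  have hψ : ∀ c, g (ψ c) = f c := fun c =>
    AlgHom.congr_fun (Algebra.FormallySmooth.comp_liftOfSurjective f g hg hgn) c
  have hz : ∀ c ∈ maximalIdeal B, g (ψ c) = 0 := fun c hc => by
    have : Ideal.Quotient.mkₐ A (maximalIdeal B) c = 0 := Ideal.Quotient.eq_zero_iff_mem.2 hc
    rw [hψ, AlgHom.comp_apply, this, map_zero]
  have h0 : ∀ c ∈ maximalIdeal B ^ 2, ψ c = 0 := by
    intro c hc
    rw [pow_two] at hc
    induction hc using Submodule.mul_induction_on' with
    | mem_mul_mem v hv w hw => rw [map_mul]; exact hker _ (hz v hv) _ (hz w hw)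
    | add x _ y _ hx hy => rw [map_add, hx, hy, add_zero]
  have := h0 _ h
  rw [show b a = algebraMap A B a from rfl, AlgHom.commutes] at this
  exact Ideal.Quotient.eq_zero_iff_mem.1 this

/-- If `A → A'` is surjective, `A' → B'` formally smooth, and the cotangent image of `A → B` is spanned
by `r` vectors, then the maximal ideal of `A'` has at most `r` generators. -/
theorem ringKrullDim_le {A B A' B' : Type u} [CommRing A] [CommRing B] [CommRing A'] [CommRing B']
    [IsLocalRing A] [IsLocalRing B] [IsLocalRing A'] [IsLocalRing B'] [IsNoetherianRing A']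
    (a : A →+* B) (p : A →+* A') (b : A' →+* B') (q : B →+* B') [IsLocalHom a] [IsLocalHom b] [IsLocalHom q]
    (hp : Function.Surjective p) (hsq : ∀ y, b (p y) = q (a y)) (hb : b.FormallySmooth)
    (hres : ∀ c : B', ∃ x : A', c - b x ∈ maximalIdeal B') (r : ℕ) (S : Finset (CotangentSpace B))
    (hS : S.card ≤ r) (hspan : ∀ y, ∀ hy : a y ∈ maximalIdeal B, y ∈ maximalIdeal A →
      (maximalIdeal B).toCotangent ⟨a y, hy⟩ ∈ Submodule.span (ResidueField B) (S : Set (CotangentSpace B))) :
    ringKrullDim A' ≤ r := by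
  classical
  refine le_trans (ringKrullDim_le_spanFinrank_maximalIdeal A') ?_
  rw [IsLocalRing.spanFinrank_maximalIdeal_eq_finrank_cotangentSpace]
  norm_cast
  let bas := Module.finBasis (ResidueField A') (CotangentSpace A')
  choose x hx using fun i => Ideal.toCotangent_surjective (maximalIdeal A') (bas i)
  choose s hs using fun v : CotangentSpace B => Ideal.toCotangent_surjective (maximalIdeal B) v
  let T : Finset (CotangentSpace B') :=
    S.image fun v => (maximalIdeal B').toCotangent ⟨q (s v).1, map_nonunit q _ (s v).2⟩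
  let w : Fin (Module.finrank (ResidueField A') (CotangentSpace A')) → CotangentSpace B' :=
    fun i => (maximalIdeal B').toCotangent ⟨b (x i).1, map_nonunit b _ (x i).2⟩
  have hw : LinearIndependent (ResidueField B') w := by
    rw [Fintype.linearIndependent_iff]
    intro c hc i
    have : ∀ j, ∃ e : A', c j = residue B' (b e) := fun j => by
      obtain ⟨d, hd⟩ := residue_surjective (c j)
      obtain ⟨e, he⟩ := hres d
      exact ⟨e, by rw [← hd, ← sub_eq_zero, ← map_sub]; exact (residue_eq_zero_iff _).2 he⟩
    choose e he using this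
    have h1 : (maximalIdeal B').toCotangent (∑ j, b (e j) • ⟨b (x j).1, map_nonunit b _ (x j).2⟩) = 0 := by
      rw [map_sum, ← hc]
      refine Finset.sum_congr rfl fun j _ => ?_
      rw [map_smul, he j]
      exact (algebraMap_smul (ResidueField B') _ _).symm
    rw [Ideal.toCotangent_eq_zero] at h1
    have h2 : b (∑ j, e j * (x j).1) ∈ maximalIdeal B' ^ 2 := by
      simpa using h1
    have h3 := mem_sq_of_map_mem_sq b hb hres
      (Ideal.sum_mem _ fun j _ => Ideal.mul_mem_left _ _ (x j).2) h2
    have h4 : (maximalIdeal A').toCotangent (∑ j, e j • x j) = 0 := by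
      rw [Ideal.toCotangent_eq_zero]; simpa using h3
    have h5 : ∑ j, residue A' (e j) • bas j = 0 := by
      rw [← h4, map_sum]
      refine Finset.sum_congr rfl fun j _ => ?_
      rw [map_smul, hx j]
      exact algebraMap_smul (ResidueField A') _ _
    have h6 := Fintype.linearIndependent_iff.1 bas.linearIndependent _ h5 i
    rw [he i]
    exact (residue_eq_zero_iff _).2 (map_nonunit b _ ((residue_eq_zero_iff _).1 h6))
  have hmem : ∀ i, w i ∈ Submodule.span (ResidueField B') (T : Set (CotangentSpace B')) := by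
    intro i
    obtain ⟨y, hy⟩ := hp (x i).1
    have hym : y ∈ maximalIdeal A := by
      by_contra hu
      simp only [mem_maximalIdeal, mem_nonunits_iff, not_not] at hu
      exact (x i).2 (hy ▸ hu.map p)
    have h1 := hspan y (map_nonunit a _ hym) hym
    obtain ⟨c, -, hc⟩ := (Submodule.mem_span_finset).1 h1
    choose d hd using fun v => residue_surjective (c v)
    have h2 : (maximalIdeal B).toCotangent (∑ v ∈ S, d v • s v) = (maximalIdeal B).toCotangent ⟨a y, map_nonunit a _ hym⟩ := by
      rw [← hc, map_sum]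
      refine Finset.sum_congr rfl fun v _ => ?_
      rw [map_smul, hs, ← hd v]
      exact (algebraMap_smul (ResidueField B) _ _).symm
    rw [Ideal.toCotangent_eq] at h2
    have h3 : q ((∑ v ∈ S, d v • s v).1 - a y) ∈ maximalIdeal B' ^ 2 := by
      have := Ideal.mem_map_of_mem q h2
      rw [Ideal.map_pow] at this
      exact Ideal.pow_right_mono (Ideal.map_le_iff_le_comap.2 fun z hz => Ideal.mem_comap.2 (map_nonunit q z hz)) 2 this
    have h4 : w i = (maximalIdeal B').toCotangent (∑ v ∈ S, q (d v) • ⟨q (s v).1, map_nonunit q _ (s v).2⟩) := by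
      symm
      rw [Ideal.toCotangent_eq]
      simpa [← hy, hsq] using h3
    rw [h4, map_sum]
    refine Submodule.sum_mem _ fun v hv => ?_
    rw [map_smul, ← algebraMap_smul (ResidueField B') (q (d v))]
    exact Submodule.smul_mem _ _ (Submodule.subset_span (Finset.mem_image_of_mem _ hv))
  have hle : Submodule.span (ResidueField B') (Set.range w) ≤
      Submodule.span (ResidueField B') (T : Set (CotangentSpace B')) :=
    Submodule.span_le.2 (Set.range_subset_iff.2 hmem)
  calc Module.finrank (ResidueField A') (CotangentSpace A')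
      = Module.finrank (ResidueField B') (Submodule.span (ResidueField B') (Set.range w)) := by
        rw [finrank_span_eq_card hw, Fintype.card_fin]
    _ ≤ Module.finrank (ResidueField B') (Submodule.span (ResidueField B') (T : Set (CotangentSpace B'))) :=
        Submodule.finrank_mono hle
    _ ≤ T.card := finrank_span_finset_le_card T
    _ ≤ r := (Finset.card_image_le).trans hS

end Groth.Misc12.RankDim
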