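import Groth.Agent.Misc12.RankDim
import Groth.Agent.Variety2.CotangentScheme
import Groth.Agent.Variety2.SmoothCriterion
import Groth.Agent.PropsBasic2.Reduced

/-! The image of the locus where the cotangent map has small rank. -/

set_option autoImplicit false
set_option linter.style.haveILetI false
universe u

open CategoryTheory AlgebraicGeometry IsLocalRing TopologicalSpace

namespace Groth.Misc12.RankDimScheme

variable {X Y Z : Scheme.{u}}

lemma stalkMapAt_congr {F G : X ⟶ Y} (h : F = G) (z : X) (w : Y) (hF : F z = w) (hG : G z = w) :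
    FixPt.stalkMapAt F z w hF = FixPt.stalkMapAt G z w hG := by
  subst h; rfl

lemma stalkMapAt_comp (F : X ⟶ Y) (G : Y ⟶ Z) (z : X) (w : Z) (h : (F ≫ G) z = w) (h' : G (F z) = w) :
    FixPt.stalkMapAt (F ≫ G) z w h = (F.stalkMap z).hom.comp (FixPt.stalkMapAt G (F z) w h') := by
  subst h'
  rw [show FixPt.stalkMapAt G (F z) (G (F z)) rfl = (G.stalkMap (F z)).hom from
    Groth.Variety2.CotSmooth.stalkMapAt_eq G (F z)]
  rw [← CommRingCat.hom_comp, ← Scheme.Hom.stalkMap_comp]
  exact Groth.Variety2.CotSmooth.stalkMapAt_eq (F ≫ G) z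

lemma isLocalHom_stalkMapAt (F : X ⟶ Y) (z : X) (w : Y) (h : F z = w) :
    IsLocalHom (FixPt.stalkMapAt F z w h) := by
  subst h
  rw [Groth.Variety2.CotSmooth.stalkMapAt_eq]
  infer_instance

lemma surjective_stalkMapAt (F : X ⟶ Y) [IsClosedImmersion F] (z : X) (w : Y) (h : F z = w) :
    Function.Surjective (FixPt.stalkMapAt F z w h) := by
  subst h
  rw [Groth.Variety2.CotSmooth.stalkMapAt_eq]
  exact F.stalkMap_surjective z

lemma exists_reduced {C : Set X} (hC : IsClosed C) (hirr : IsIrreducible C) :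
    ∃ (Cs : Scheme.{u}) (i : Cs ⟶ X), IsClosedImmersion i ∧ IsIntegral Cs ∧ Set.range i = C := by
  let I := Scheme.IdealSheafData.vanishingIdeal (⟨C, hC⟩ : Closeds X)
  have hr : Set.range I.subschemeι = C := Groth.PropsBasic2.range_vanishingIdeal_subschemeι _
  haveI : IsReduced I.subscheme := Groth.PropsBasic2.isReduced_vanishingIdeal_subscheme _
  let e : I.subscheme ≃ₜ C :=
    I.subschemeι.isEmbedding.toHomeomorph.trans (Homeomorph.setCongr hr)
  haveI : IrreducibleSpace ↥C := isIrreducible_iff_irreducibleSpace.1 hirr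
  haveI : IrreducibleSpace I.subscheme := by
    have := hirr
    rw [irreducibleSpace_def, Set.top_eq_univ, ← e.symm.surjective.range_eq, ← Set.image_univ]
    exact (IrreducibleSpace.isIrreducible_univ _).image _ e.symm.continuous.continuousOn
  exact ⟨_, I.subschemeι, inferInstance, isIntegral_of_irreducibleSpace_of_isReduced _, hr⟩

variable {k : Type u} [Field k] [IsAlgClosed k] [CharZero k]

theorem dim_closure_image_le (qX : X ⟶ Spec (CommRingCat.of k)) (qY : Y ⟶ Spec (CommRingCat.of k))
    [LocallyOfFiniteType qX] [LocallyOfFiniteType qY] (f : X ⟶ Y) (hf : f ≫ qY = qX) (r : ℕ)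
    (P : Set X) (hP : ∀ x ∈ P, IsClosed ({x} : Set X) ∧
      ∃ S : Finset (CotangentSpace (X.presheaf.stalk x)), S.card ≤ r ∧
        (LinearMap.range (FixPt.cotangentMapAt f x (f.base x) rfl) : Set (CotangentSpace (X.presheaf.stalk x))) ⊆
          (Submodule.span (ResidueField (X.presheaf.stalk x)) (S : Set (CotangentSpace (X.presheaf.stalk x))) :
            Set (CotangentSpace (X.presheaf.stalk x))))
    {C : Set X} (hC : IsClosed C) (hirr : IsIrreducible C) (hd : C ⊆ closure (C ∩ P)) :
    topologicalKrullDim ↥(closure (f '' C)) ≤ r := by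
  classical
  obtain ⟨Cs, iC, _, _, hrC⟩ := exists_reduced hC hirr
  obtain ⟨W, iW, _, _, hrW⟩ := exists_reduced (X := Y) isClosed_closure
    (hirr.image f f.continuous.continuousOn).closure
  obtain ⟨g, hg⟩ := Groth.PropsBasic2.exists_lift_of_isReduced (iC ≫ f) iW (by
    rw [hrW, Scheme.Hom.comp_base, TopCat.coe_comp, Set.range_comp, hrC]
    exact subset_closure)
  let qC : Cs ⟶ Spec (CommRingCat.of k) := iC ≫ qX
  let qW : W ⟶ Spec (CommRingCat.of k) := iW ≫ qY
  have hgq : g ≫ qW = qC := by simp only [qW, qC, reassoc_of% hg, hf]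
  haveI : LocallyOfFiniteType (g ≫ qW) := hgq ▸ inferInstance
  haveI := locallyOfFiniteType_of_comp g qW
  haveI := LocallyOfFiniteType.isLocallyNoetherian qW
  haveI := Groth.Variety2.locallyOfFinitePresentation_of_noetherian g
  letI : Cs.Over (Spec (CommRingCat.of k)) := ⟨qC⟩
  letI : W.Over (Spec (CommRingCat.of k)) := ⟨qW⟩
  haveI : LocallyOfFiniteType (Cs ↘ Spec (CommRingCat.of k)) := inferInstanceAs (LocallyOfFiniteType qC)
  haveI : LocallyOfFiniteType (W ↘ Spec (CommRingCat.of k)) := inferInstanceAs (LocallyOfFiniteType qW)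
  have hcomp : g ≫ (W ↘ Spec (CommRingCat.of k)) = Cs ↘ Spec (CommRingCat.of k) := hgq
  -- dominance
  have hgen : g (genericPoint Cs) = genericPoint W := by
    have h1 := (genericPoint_spec Cs).image g.continuous
    have h2 : closure (g '' Set.univ) = (Set.univ : Set W) := by
      rw [Set.image_univ, iW.isEmbedding.closure_eq_preimage_closure_image, ← Set.range_comp,
        ← TopCat.coe_comp, ← Scheme.Hom.comp_base, hg, Scheme.Hom.comp_base, TopCat.coe_comp,
        Set.range_comp, hrC, ← hrW, Set.preimage_range]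
    rw [h2] at h1
    exact h1.eq (genericPoint_spec W)
  haveI : CharZero W.functionField :=
    charZero_of_injective_ringHom (Curv2.stalkMap k W (genericPoint W)).injective
  have hsm := Groth.Variety2.genericPoint_mem_smoothLocus g hgen
  -- a good closed point
  obtain ⟨O, hO, hOe⟩ := iC.isEmbedding.isInducing.isOpen_iff.1 g.smoothLocus.isOpen
  have hgO : iC (genericPoint Cs) ∈ O := by
    rw [← Set.mem_preimage, hOe]; exact hsm
  obtain ⟨x, hxO, hxC, hxP⟩ := mem_closure_iff.1 (hd (hrC.le ⟨_, rfl⟩)) O hO hgO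
  obtain ⟨z, rfl⟩ := hrC.ge hxC
  have hz : z ∈ g.smoothLocus := by rw [← SetLike.mem_coe, ← hOe]; exact hxO
  obtain ⟨hxc, S, hS, hspan⟩ := hP _ hxP
  have hzc : IsClosed ({z} : Set Cs) := by
    rw [← iC.isEmbedding.injective.preimage_image {z}, Set.image_singleton]
    exact hxc.preimage iC.continuous
  have hgz : iW (g z) = f (iC z) := by
    rw [← Scheme.Hom.comp_apply, hg, Scheme.Hom.comp_apply]
  let p := FixPt.stalkMapAt iW (g z) (f (iC z)) hgz
  let a := FixPt.stalkMapAt f (iC z) (f (iC z)) rfl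
  haveI : IsLocalHom a := isLocalHom_stalkMapAt _ _ _ _
  haveI : IsLocalHom (g.stalkMap z).hom := inferInstance
  haveI : IsLocalHom (iC.stalkMap z).hom := inferInstance
  have hsq : ∀ y, (g.stalkMap z).hom (p y) = (iC.stalkMap z).hom (a y) := fun y => by
    rw [← RingHom.comp_apply, ← RingHom.comp_apply, ← stalkMapAt_comp g iW z _ (by rw [Scheme.Hom.comp_apply, hgz]) hgz,
      ← stalkMapAt_comp iC f z _ (by rw [Scheme.Hom.comp_apply]) rfl]
    exact RingHom.congr_fun (stalkMapAt_congr hg z _ _ _) y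
  have hfs : (g.stalkMap z).hom.FormallySmooth := (Scheme.Hom.mem_smoothLocus).1 hz
  have hres : ∀ c : Cs.presheaf.stalk z, ∃ e : W.presheaf.stalk (g z),
      c - (g.stalkMap z).hom e ∈ maximalIdeal (Cs.presheaf.stalk z) := fun c => by
    letI := Curv2.stalkAlgebra k Cs z
    obtain ⟨t, ht⟩ := (Groth.Variety2.CotSmooth.bijective_algebraMap_residue (k := k) hzc).2 (residue _ c)
    refine ⟨Curv2.stalkMap k W (g z) t, (residue_eq_zero_iff _).1 ?_⟩
    rw [map_sub, sub_eq_zero, ← RingHom.comp_apply (g.stalkMap z).hom,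
      Groth.Variety2.CotSmooth.stalkMap_comp g hcomp z]
    exact ht.symm
  have hdim := Groth.Misc12.RankDim.ringKrullDim_le a p (g.stalkMap z).hom (iC.stalkMap z).hom
    (surjective_stalkMapAt iW _ _ hgz) hsq hfs hres r S hS (fun y hy hym => hspan ⟨(maximalIdeal _).toCotangent ⟨y, hym⟩, by
      exact Ideal.mapCotangent_toCotangent _ _ _ _ _⟩)
  have hwc := Groth.Variety2.Dim.isClosed_image_singleton qC qW g hgq hzc
  have h1 := Groth.Variety2.Dim.ringKrullDim_stalk_add_height qW (g z)
  rw [(Groth.Variety2.Dim.height_eq_zero_iff (g z)).2 hwc] at h1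
  rw [(Homeomorph.setCongr hrW.symm).isHomeomorph.topologicalKrullDim_eq,
    ← iW.isEmbedding.toHomeomorph.isHomeomorph.topologicalKrullDim_eq, ← h1]
  simpa using hdim

end Groth.Misc12.RankDimScheme
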