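import Mathlib

/-! Global functions of a product with a scheme over a field; quasi-separatedness is not needed. -/

set_option autoImplicit false
set_option linter.style.haveILetI false
universe u

open CategoryTheory Limits AlgebraicGeometry TopologicalSpace TensorProduct

namespace Groth.Misc12.SectionsField

section Alg

variable {R C M N : Type u} [CommRing R] [CommRing C] [Algebra R C] [CommRing M] [Algebra R M]
  [CommRing N] [Algebra R N]

lemma equivFinsupp_map {ι : Type*} [DecidableEq ι] (b : Module.Basis ι R C) (φ : M →ₐ[R] N) (z : C ⊗[R] M) (i : ι) :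
    TensorProduct.equivFinsuppOfBasisLeft b (Algebra.TensorProduct.map (AlgHom.id R C) φ z) i =
      φ (TensorProduct.equivFinsuppOfBasisLeft b z i) := by
  classical
  induction z using TensorProduct.induction_on with
  | zero => simp
  | tmul c m => simp
  | add x y hx hy => simp [hx, hy]

/-- A jointly injective family stays jointly injective after tensoring with a free algebra. -/
lemma eq_of_family [Module.Free R C] {J : Type*} {P : J → Type u} [∀ j, CommRing (P j)]
    [∀ j, Algebra R (P j)] (φ : ∀ j, M →ₐ[R] P j)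
    (hφ : ∀ m m' : M, (∀ j, φ j m = φ j m') → m = m') (z z' : C ⊗[R] M)
    (h : ∀ j, Algebra.TensorProduct.map (AlgHom.id R C) (φ j) z =
      Algebra.TensorProduct.map (AlgHom.id R C) (φ j) z') : z = z' := by
  classical
  let b := Module.Free.chooseBasis R C
  refine (TensorProduct.equivFinsuppOfBasisLeft b).injective (Finsupp.ext fun i => hφ _ _ fun j => ?_)
  rw [← equivFinsupp_map b (φ j), ← equivFinsupp_map b (φ j), h j]

end Alg

variable {X Y S T : Scheme.{u}} {f : T ⟶ S} {g : Y ⟶ X} {iX : X ⟶ S} {iY : Y ⟶ T}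
  (H : IsPullback g iY iX f)
  {US : S.Opens} {UT : T.Opens}
  {UX : X.Opens} (hUST : UT ≤ f ⁻¹ᵁ US) (hUSX : UX ≤ iX ⁻¹ᵁ US)
  {UY : Y.Opens} (hUY : UY = g ⁻¹ᵁ UX ⊓ iY ⁻¹ᵁ UT)

/-- Over a field the sections over a product of opens receive the tensor product injectively. -/
lemma mono_pushoutSection [Flat f] (hUS : IsAffineOpen US) (hUT : IsAffineOpen UT)
    (hk : IsField Γ(S, US)) : Mono (pushoutSection H hUST hUSX hUY) := by
  classical
  simp_rw [@ConcreteCategory.mono_iff_injective_of_preservesPullback]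
  intro z z' hzz
  letI : Field Γ(S, US) := hk.toField
  letI aX : Algebra Γ(S, US) Γ(X, UX) := (iX.appLE US UX hUSX).hom.toAlgebra
  letI aT : Algebra Γ(S, US) Γ(T, UT) := (f.appLE US UT hUST).hom.toAlgebra
  let J := {V : X.affineOpens // V.1 ≤ UX}
  letI aV : ∀ V : J, Algebra Γ(S, US) Γ(X, V.1.1) := fun V =>
    (iX.appLE US V.1.1 (V.2.trans hUSX)).hom.toAlgebra
  let φ : ∀ V : J, Γ(X, UX) →ₐ[Γ(S, US)] Γ(X, V.1.1) := fun V =>
    ⟨(X.presheaf.map (homOfLE V.2).op).hom, fun r => by
      change (iX.appLE US UX hUSX ≫ X.presheaf.map (homOfLE V.2).op) r = _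
      rw [Scheme.Hom.appLE_map]
      rfl⟩
  have hφ : ∀ m m' : Γ(X, UX), (∀ V, φ V m = φ V m') → m = m' := by
    intro m m' hm
    apply X.IsSheaf.section_ext fun x hx => ?_
    obtain ⟨V, hV, hxV, hVU⟩ := Opens.isBasis_iff_nbhd.1 X.isBasis_affineOpens hx
    exact ⟨V, hVU, hxV, hm ⟨⟨V, hV⟩, hVU⟩⟩
  let e : pushout (iX.appLE US UX hUSX) (f.appLE US UT hUST) ≅
      CommRingCat.of (Γ(T, UT) ⊗[Γ(S, US)] Γ(X, UX)) :=
    (CommRingCat.isPushout_tensorProduct _ _ _).flip.isoPushout.symm
  refine e.commRingCatIsoToRingEquiv.injective (eq_of_family φ hφ _ _ fun V => ?_)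
  -- the affine piece
  let eV : pushout (iX.appLE US V.1.1 (V.2.trans hUSX)) (f.appLE US UT hUST) ≅
      CommRingCat.of (Γ(T, UT) ⊗[Γ(S, US)] Γ(X, V.1.1)) :=
    (CommRingCat.isPushout_tensorProduct _ _ _).flip.isoPushout.symm
  let r : pushout (iX.appLE US UX hUSX) (f.appLE US UT hUST) ⟶
      pushout (iX.appLE US V.1.1 (V.2.trans hUSX)) (f.appLE US UT hUST) :=
    pushout.map _ _ _ _ (X.presheaf.map (homOfLE V.2).op) (𝟙 _) (𝟙 _)
      (by rw [Scheme.Hom.appLE_map, Category.id_comp]) (by simp)
  have hle : g ⁻¹ᵁ V.1.1 ⊓ iY ⁻¹ᵁ UT ≤ UY := by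
    rw [hUY]; exact inf_le_inf_right _ (fun y hy => V.2 hy)
  have h1 : r ≫ pushoutSection H hUST (V.2.trans hUSX) rfl =
      pushoutSection H hUST hUSX hUY ≫ Y.presheaf.map (homOfLE hle).op := by
    apply pushout.hom_ext
    · simp only [r, pushoutSection, pushout.map, pushout.inl_desc_assoc, Category.assoc,
        pushout.inl_desc, Scheme.Hom.map_appLE, Scheme.Hom.appLE_map]
    · simp only [r, pushoutSection, pushout.map, pushout.inr_desc_assoc, Category.assoc,
        pushout.inr_desc, Scheme.Hom.appLE_map, Category.id_comp]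
  haveI := isIso_pushoutSection_of_isAffineOpen H hUST (V.2.trans hUSX) rfl hUS hUT V.1.2
  have h2 : r z = r z' := by
    apply (ConcreteCategory.bijective_of_isIso (pushoutSection H hUST (V.2.trans hUSX) rfl)).1
    rw [← CategoryTheory.comp_apply, ← CategoryTheory.comp_apply, h1, CategoryTheory.comp_apply,
      CategoryTheory.comp_apply, hzz]
  have h3 : r ≫ eV.hom = e.hom ≫
      CommRingCat.ofHom (Algebra.TensorProduct.map (AlgHom.id Γ(S, US) Γ(T, UT)) (φ V)).toRingHom := by
    have l₁ : pushout.inl _ _ ≫ e.hom = CommRingCat.ofHom _ :=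
      IsPushout.inl_isoPushout_inv (CommRingCat.isPushout_tensorProduct _ _ _).flip
    have l₂ : pushout.inl _ _ ≫ eV.hom = CommRingCat.ofHom _ :=
      IsPushout.inl_isoPushout_inv (CommRingCat.isPushout_tensorProduct _ _ _).flip
    have r₁ : pushout.inr _ _ ≫ e.hom = CommRingCat.ofHom _ :=
      IsPushout.inr_isoPushout_inv (CommRingCat.isPushout_tensorProduct _ _ _).flip
    have r₂ : pushout.inr _ _ ≫ eV.hom = CommRingCat.ofHom _ :=
      IsPushout.inr_isoPushout_inv (CommRingCat.isPushout_tensorProduct _ _ _).flip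
    apply pushout.hom_ext
    · rw [← Category.assoc (pushout.inl _ _) e.hom, l₁]
      simp only [r, pushout.map, pushout.inl_desc_assoc, Category.assoc]
      rw [l₂]
      ext x
      simp [φ]
    · rw [← Category.assoc (pushout.inr _ _) e.hom, r₁]
      simp only [r, pushout.map, pushout.inr_desc_assoc, Category.assoc]
      rw [r₂]
      ext x
      simp [φ]
  change (CommRingCat.ofHom (Algebra.TensorProduct.map (AlgHom.id Γ(S, US) Γ(T, UT)) (φ V)).toRingHom) (e.hom z) =
    (CommRingCat.ofHom (Algebra.TensorProduct.map (AlgHom.id Γ(S, US) Γ(T, UT)) (φ V)).toRingHom) (e.hom z')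
  rw [← CategoryTheory.comp_apply, ← CategoryTheory.comp_apply, ← h3, CategoryTheory.comp_apply,
    CategoryTheory.comp_apply, h2]

/-- Over a field the sections over a quasi-compact open times an affine one are the tensor product. -/
lemma isIso_pushoutSection [Flat f] (hUS : IsAffineOpen US) (hUT : IsAffineOpen UT)
    (hk : IsField Γ(S, US)) (hUX : IsCompact (X := X) UX) :
    IsIso (pushoutSection H hUST hUSX hUY) := by
  obtain ⟨I, hI, e⟩ := isCompact_iff_finite_and_eq_biUnion_affineOpens.mp hUX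
  have := hI.to_subtype
  exact isIso_pushoutSection_of_iSup_eq (ι := I) H hUST hUSX hUY (·) (by rwa [iSup_subtype, eq_comm])
    (fun i ↦ isIso_pushoutSection_of_isAffineOpen H hUST _ rfl hUS hUT i.1.2)
    (fun i j ↦ mono_pushoutSection H hUST _ rfl hUS hUT hk)
    (f.flat_appLE hUS hUT _)

end Groth.Misc12.SectionsField
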